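import Cfsg.Agent.H171.RM.Count
import Cfsg.Agent.H555.RV.Crit
import Cfsg.Agent.H438.Fpr.LyC
import Cfsg.Agent.H511.Cyc.LyOrd
import Cfsg.Agent.H314.LyOrb.NSeven
import Cfsg.Agent.NotCT.Orders

/-!
# S3849, P11: `Ly`, the pairs of type CENT (helper171)
-/

set_option autoImplicit false

namespace Cfsg.Agent.H171.RM

open Cfsg Subgroup Cfsg.Agent.H571.DExt Cfsg.Agent.H555.RV

universe u

variable {S : Type u} [Group S] [Finite S]

namespace Lyons

theorem hc : Nat.card Spor.Ly = 51765179004000000 := NotCT.Orders.ly ⟨MulEquiv.refl _⟩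

theorem hfin : Finite Spor.Ly := Nat.finite_of_card_ne_zero (by rw [hc]; norm_num)

theorem p2_7 : ¬ Dom ({2, 7} : Set ℕ) Spor.Ly := by
  have := hfin
  have := Fact.mk (show Nat.Prime 7 by norm_num)
  obtain ⟨x, hx⟩ := exists_prime_orderOf_dvd_card' (G := Spor.Ly) 7 (by rw [hc]; norm_num)
  exact nd_norm (M := 1008) (a := 8) (b := 4) (P := zpowers x) Nat.prime_two (by norm_num) (by norm_num) hc
    (by rw [Nat.card_zpowers, hx]) (H314.LyOrb.card_normalizer_seven hx) (by decide +kernel)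
theorem p2_11 : ¬ Dom ({2, 11} : Set ℕ) Spor.Ly := by
  have := hfin
  have := Fact.mk (show Nat.Prime 11 by norm_num)
  obtain ⟨x, hx⟩ := exists_prime_orderOf_dvd_card' (G := Spor.Ly) 11 (by rw [hc]; norm_num)
  exact nd_norm (M := 330) (a := 8) (b := 1) (P := zpowers x) Nat.prime_two (by norm_num) (by norm_num) hc
    (by rw [Nat.card_zpowers, hx]) (H438.Fpr.Ly.cn11 (by rw [Nat.card_zpowers, hx])).2 (by decide +kernel)
theorem p2_31 : ¬ Dom ({2, 31} : Set ℕ) Spor.Ly := by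
  have := hfin
  have := Fact.mk (show Nat.Prime 31 by norm_num)
  obtain ⟨x, hx⟩ := exists_prime_orderOf_dvd_card' (G := Spor.Ly) 31 (by rw [hc]; norm_num)
  exact nd_norm (M := 186) (a := 8) (b := 1) (P := zpowers x) Nat.prime_two (by norm_num) (by norm_num) hc
    (by rw [Nat.card_zpowers, hx]) (by rw [(H511.Cyc.Ly.dat31 hx).2]) (by decide +kernel)
theorem p2_37 : ¬ Dom ({2, 37} : Set ℕ) Spor.Ly := by
  have := hfin
  have := Fact.mk (show Nat.Prime 37 by norm_num)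
  obtain ⟨x, hx⟩ := exists_prime_orderOf_dvd_card' (G := Spor.Ly) 37 (by rw [hc]; norm_num)
  exact nd_norm (M := 666) (a := 8) (b := 1) (P := zpowers x) Nat.prime_two (by norm_num) (by norm_num) hc
    (by rw [Nat.card_zpowers, hx]) (by rw [(H511.Cyc.Ly.dat37 hx).2]) (by decide +kernel)
theorem p2_67 : ¬ Dom ({2, 67} : Set ℕ) Spor.Ly := by
  have := hfin
  have := Fact.mk (show Nat.Prime 67 by norm_num)
  obtain ⟨x, hx⟩ := exists_prime_orderOf_dvd_card' (G := Spor.Ly) 67 (by rw [hc]; norm_num)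
  exact nd_norm (M := 1474) (a := 8) (b := 1) (P := zpowers x) Nat.prime_two (by norm_num) (by norm_num) hc
    (by rw [Nat.card_zpowers, hx]) (by rw [(H511.Cyc.Ly.dat67 hx).2]) (by decide +kernel)
theorem p3_7 : ¬ Dom ({3, 7} : Set ℕ) Spor.Ly := by
  have := hfin
  have := Fact.mk (show Nat.Prime 7 by norm_num)
  obtain ⟨x, hx⟩ := exists_prime_orderOf_dvd_card' (G := Spor.Ly) 7 (by rw [hc]; norm_num)
  exact nd_norm (M := 1008) (a := 7) (b := 2) (P := zpowers x) Nat.prime_three (by norm_num) (by norm_num) hc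
    (by rw [Nat.card_zpowers, hx]) (H314.LyOrb.card_normalizer_seven hx) (by decide +kernel)
theorem p3_11 : ¬ Dom ({3, 11} : Set ℕ) Spor.Ly := by
  have := hfin
  have := Fact.mk (show Nat.Prime 11 by norm_num)
  obtain ⟨x, hx⟩ := exists_prime_orderOf_dvd_card' (G := Spor.Ly) 11 (by rw [hc]; norm_num)
  exact nd_norm (M := 330) (a := 7) (b := 1) (P := zpowers x) Nat.prime_three (by norm_num) (by norm_num) hc
    (by rw [Nat.card_zpowers, hx]) (H438.Fpr.Ly.cn11 (by rw [Nat.card_zpowers, hx])).2 (by decide +kernel)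

end Lyons

theorem no2_ly_7 (h : Spor.IsoLy S) : ¬ Dom ({2, 7} : Set ℕ) S := by
  obtain ⟨e⟩ := h
  exact fun hD => Lyons.p2_7 (dom_equiv e hD)
theorem no2_ly_11 (h : Spor.IsoLy S) : ¬ Dom ({2, 11} : Set ℕ) S := by
  obtain ⟨e⟩ := h
  exact fun hD => Lyons.p2_11 (dom_equiv e hD)
theorem no2_ly_31 (h : Spor.IsoLy S) : ¬ Dom ({2, 31} : Set ℕ) S := by
  obtain ⟨e⟩ := h
  exact fun hD => Lyons.p2_31 (dom_equiv e hD)
theorem no2_ly_37 (h : Spor.IsoLy S) : ¬ Dom ({2, 37} : Set ℕ) S := by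
  obtain ⟨e⟩ := h
  exact fun hD => Lyons.p2_37 (dom_equiv e hD)
theorem no2_ly_67 (h : Spor.IsoLy S) : ¬ Dom ({2, 67} : Set ℕ) S := by
  obtain ⟨e⟩ := h
  exact fun hD => Lyons.p2_67 (dom_equiv e hD)
theorem no_ly_3_7 (h : Spor.IsoLy S) : ¬ Dom ({3, 7} : Set ℕ) S := by
  obtain ⟨e⟩ := h
  exact fun hD => Lyons.p3_7 (dom_equiv e hD)
theorem no_ly_3_11 (h : Spor.IsoLy S) : ¬ Dom ({3, 11} : Set ℕ) S := by
  obtain ⟨e⟩ := h
  exact fun hD => Lyons.p3_11 (dom_equiv e hD)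

end Cfsg.Agent.H171.RM
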