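import Cfsg.Agent.H464.RM.Tools

/-!
# S3849, P11: `|S|_t = t`, `s` does not divide `|N_S(⟨x⟩)|`, `x` of order `t` (helper171)

A Hall `{s,t}`-subgroup is `P⟨x⟩`, `P` of order `s ^ a`, `x` fixed point free on `P` and on `Z(P)`.
-/

set_option autoImplicit false

namespace Cfsg.Agent.H171.RM

open Subgroup Cfsg Cfsg.Agent.H571.DExt Cfsg.Agent.H988.CPi Cfsg.Agent.H464.RM Cfsg.Agent.H555.PiBS

universe u

variable {S : Type u} [Group S]

theorem exists_fpf [Finite S] {s t a m : ℕ} (hs : s.Prime) (ht : t.Prime) (hst : s ≠ t)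
    (hS : Nat.card S = s ^ a * t ^ 1 * m) (h2 : ¬ s ∣ m) (hm : ¬ t ∣ m)
    (hN : ∀ x : S, orderOf x = t → ¬ s ∣ Nat.card (normalizer (zpowers x : Set S)))
    {K : Subgroup S} (hK : IsPiHall ({s, t} : Set ℕ) K) :
    ∃ (P : Subgroup S) (x : S), Nat.card P = s ^ a ∧ x ^ t = 1 ∧ x ∈ normalizer (P : Set S) ∧
      P ⊓ centralizer {x} = ⊥ := by
  have hft : Fact t.Prime := ⟨ht⟩
  have hfs : Fact s.Prime := ⟨hs⟩
  have hcK := Cfsg.Agent.H464.RM.card_of_hall hs ht hS h2 hm hK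
  obtain ⟨T⟩ : Nonempty (Sylow t K) := inferInstance
  have hcT : Nat.card (T : Subgroup K) = t := by
    rw [Sylow.card_eq_multiplicity, hcK, Nat.factorization_mul (pow_ne_zero _ hs.ne_zero)
      (pow_ne_zero _ ht.ne_zero), Finsupp.add_apply, hs.factorization_pow, ht.factorization_pow,
      Finsupp.single_apply, Finsupp.single_apply, if_neg hst, if_pos rfl, zero_add, pow_one]
  have hcyc : IsCyclic (T : Subgroup K) := isCyclic_of_prime_card hcT
  obtain ⟨y, hy⟩ : ∃ y : K, (T : Subgroup K) = zpowers y := by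
    obtain ⟨x, hx⟩ := hcyc.exists_generator
    refine ⟨x, le_antisymm (fun y hy => ?_) (zpowers_le.2 x.2)⟩
    obtain ⟨k, hk⟩ := hx ⟨y, hy⟩
    exact ⟨k, congrArg Subtype.val hk⟩
  have hyo : orderOf (y : S) = t := by rw [orderOf_coe, ← Nat.card_zpowers, ← hy, hcT]
  have hmap : (T : Subgroup K).map K.subtype = zpowers (y : S) := by
    rw [hy, MonoidHom.map_zpowers]
    rfl
  -- the normalizer
  have hNK : Nat.card (normalizer ((T : Subgroup K) : Set K)) ∣ t := by
    have h3 : (normalizer ((T : Subgroup K) : Set K)).map K.subtype ≤ normalizer (zpowers (y : S) : Set S) := by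
      rintro _ ⟨n, hn, rfl⟩
      rw [← hmap]
      apply mem_normalizer_fintype
      rintro _ ⟨z, hz, rfl⟩
      exact ⟨n * z * n⁻¹, (mem_normalizer_iff.1 hn z).1 hz, by simp⟩
    have h4 := card_dvd_of_le h3
    rw [card_map_of_injective (subtype_injective K)] at h4
    have h5 : ¬ s ∣ Nat.card (normalizer ((T : Subgroup K) : Set K)) := fun h => hN _ hyo (h.trans h4)
    have h6 : Nat.card (normalizer ((T : Subgroup K) : Set K)) ∣ s ^ a * t := by
      have h7 := card_subgroup_dvd_card (normalizer ((T : Subgroup K) : Set K))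
      rwa [hcK, pow_one] at h7
    exact (Nat.Coprime.pow_right a ((hs.coprime_iff_not_dvd.2 h5).symm)).dvd_of_dvd_mul_left h6
  have hNT : normalizer ((T : Subgroup K) : Set K) = (T : Subgroup K) :=
    (eq_of_le_of_card_ge le_normalizer (by rw [hcT]; exact Nat.le_of_dvd ht.pos hNK)).symm
  have hnc : normalizer ((T : Subgroup K) : Set K) ≤ centralizer ((T : Subgroup K) : Set K) := by
    rw [hNT, hy]
    rintro _ ⟨i, rfl⟩
    rw [mem_centralizer_iff]
    rintro _ ⟨j, rfl⟩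
    exact ((Commute.refl y).zpow_zpow j i).eq
  obtain ⟨N, hNn, hcompl⟩ : ∃ N : Subgroup K, N.Normal ∧ IsComplement' N (T : Subgroup K) :=
    ⟨_, inferInstance, MonoidHom.ker_transferSylow_isComplement' T hnc⟩
  have h1 : Nat.card N * Nat.card (T : Subgroup K) = Nat.card K := hcompl.card_mul_card
  rw [hcT, hcK, pow_one] at h1
  have hcN : Nat.card N = s ^ a := Nat.eq_of_mul_eq_mul_right ht.pos h1
  refine ⟨N.map K.subtype, y, ?_, by rw [← hyo]; exact pow_orderOf_eq_one _, ?_, ?_⟩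
  · rw [card_map_of_injective (subtype_injective K), hcN]
  · apply mem_normalizer_fintype
    rintro _ ⟨z, hz, rfl⟩
    exact ⟨y * z * y⁻¹, hNn.conj_mem z hz _, by simp⟩
  · have h3 : IsPGroup s (N.map K.subtype ⊓ centralizer {(y : S)} : Subgroup S) :=
      ((IsPGroup.of_card hcN).map _).to_le inf_le_left
    obtain ⟨k, hk⟩ := h3.exists_card_eq
    rw [← card_eq_one, hk]
    rcases Nat.eq_zero_or_pos k with h4 | h4
    · rw [h4, pow_zero]
    · exfalso
      apply hN _ hyo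
      have h5 : (N.map K.subtype ⊓ centralizer {(y : S)} : Subgroup S) ≤ normalizer (zpowers (y : S) : Set S) := by
        refine inf_le_right.trans fun g hg => ?_
        apply mem_normalizer_fintype
        rintro _ ⟨i, rfl⟩
        have h6 : Commute g (y : S) := mem_centralizer_singleton_iff.1 hg
        exact ⟨i, by rw [(h6.zpow_right i).eq]; group⟩
      have h6 := card_dvd_of_le h5
      rw [hk] at h6
      exact (dvd_pow_self s h4.ne').trans h6

/-- `t` divides `|Z(P)| - 1` -/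
theorem no_zc [Finite S] {s t a m : ℕ} (hs : s.Prime) (ht : t.Prime) (hst : s ≠ t) (ha : a ≠ 0)
    (hS : Nat.card S = s ^ a * t ^ 1 * m) (h2 : ¬ s ∣ m) (hm : ¬ t ∣ m)
    (hN : ∀ x : S, orderOf x = t → ¬ s ∣ Nat.card (normalizer (zpowers x : Set S)))
    (hZ : ∀ P : Subgroup S, Nat.card P = s ^ a → ∀ j, 1 ≤ j →
      Nat.card (P ⊓ centralizer (P : Set S) : Subgroup S) = s ^ j → ¬ t ∣ s ^ j - 1)
    (K : Subgroup S) : ¬ IsPiHall ({s, t} : Set ℕ) K := by
  intro hK
  have hfs : Fact s.Prime := ⟨hs⟩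
  obtain ⟨P, x, hP, hxt, hxn, hfp⟩ := exists_fpf hs ht hst hS h2 hm hN hK
  have hPp : IsPGroup s P := IsPGroup.of_card hP
  set Z : Subgroup S := P ⊓ centralizer (P : Set S) with hZd
  have hxZ : x ∈ normalizer (Z : Set S) := by
    apply mem_normalizer_fintype
    rintro z ⟨hz, hzc⟩
    refine ⟨(mem_normalizer_iff.1 hxn z).1 hz, ?_⟩
    have hzc : ∀ p ∈ P, p * z = z * p := fun p hp => mem_centralizer_iff.1 hzc p hp
    refine mem_centralizer_iff.2 fun p hp => ?_
    have h3 : x⁻¹ * p * x ∈ P := (mem_normalizer_iff''.1 hxn p).1 hp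
    have h4 := hzc _ h3
    calc p * (x * z * x⁻¹) = x * ((x⁻¹ * p * x) * z) * x⁻¹ := by group
      _ = x * (z * (x⁻¹ * p * x)) * x⁻¹ := by rw [h4]
      _ = x * z * x⁻¹ * p := by group
  have h3 := fix_card ht hxt Z hxZ
  have h4 : (Z ⊓ centralizer {x} : Subgroup S) = ⊥ := by
    rw [eq_bot_iff, ← hfp]
    exact inf_le_inf_right _ inf_le_left
  rw [h4, card_bot] at h3
  obtain ⟨j, hj⟩ := (hPp.to_le (inf_le_left : Z ≤ P)).exists_card_eq
  have hj1 : 1 ≤ j := by
    by_contra h5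
    have h6 : j = 0 := by omega
    rw [h6, pow_zero] at hj
    have hnt : Nontrivial P := by
      rw [nontrivial_iff_ne_bot]
      rintro h7
      rw [h7, card_bot] at hP
      exact absurd hP.symm (Nat.one_lt_pow ha hs.one_lt).ne'
    have hnc := hPp.center_nontrivial
    obtain ⟨⟨⟨c, hcP⟩, hcZ⟩, hc1⟩ := exists_ne (1 : center P)
    have hc1 : c ≠ 1 := fun h5 => hc1 (by subst h5; rfl)
    have hcc : c ∈ Z := ⟨hcP, mem_centralizer_iff.2 fun x hx => congrArg Subtype.val (mem_center_iff.1 hcZ ⟨x, hx⟩)⟩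
    have hZb : Z = ⊥ := card_eq_one.1 hj
    rw [hZb] at hcc
    exact hc1 (mem_bot.1 hcc)
  refine hZ P hP j hj1 hj ?_
  rw [hj] at h3
  exact (Nat.modEq_iff_dvd' (Nat.one_le_pow _ _ hs.pos)).1 h3.symm

/-- a Sylow `s`-subgroup is nonabelian, `t` divides `s ^ j - 1` for no `1 ≤ j < a` -/
theorem no_nab [Finite S] {s t a m : ℕ} (hs : s.Prime) (ht : t.Prime) (hst : s ≠ t) (ha : a ≠ 0)
    (hS : Nat.card S = s ^ a * t ^ 1 * m) (h2 : ¬ s ∣ m) (hm : ¬ t ∣ m)
    (hN : ∀ x : S, orderOf x = t → ¬ s ∣ Nat.card (normalizer (zpowers x : Set S)))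
    {E : Subgroup S} (hE : IsPGroup s E) (hna : ∃ x ∈ E, ∃ y ∈ E, x * y ≠ y * x)
    (hj : ∀ j, 1 ≤ j → j < a → ¬ t ∣ s ^ j - 1)
    (K : Subgroup S) : ¬ IsPiHall ({s, t} : Set ℕ) K := by
  refine no_zc hs ht hst ha hS h2 hm hN (fun P hP j hj1 hZ => ?_) K
  have hfs : Fact s.Prime := ⟨hs⟩
  by_cases hja : j < a
  · exact hj j hj1 hja
  exfalso
  have h3 : (P ⊓ centralizer (P : Set S) : Subgroup S) = P :=
    eq_of_le_of_card_ge inf_le_left (by rw [hP, hZ]; exact Nat.pow_le_pow_right hs.pos (by omega))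
  have hab : ∀ x ∈ P, ∀ y ∈ P, x * y = y * x := by
    intro x hx y hy
    have h4 : y ∈ (P ⊓ centralizer (P : Set S) : Subgroup S) := by rw [h3]; exact hy
    exact mem_centralizer_iff.1 h4.2 x hx
  have hPi : ¬ s ∣ P.index := by
    have h5 := P.card_mul_index
    rw [hP, hS, mul_assoc] at h5
    rw [Nat.eq_of_mul_eq_mul_left (pow_pos hs.pos a) h5, pow_one]
    intro h6
    rcases hs.dvd_mul.1 h6 with h7 | h7
    · exact hst ((Nat.prime_dvd_prime_iff_eq hs ht).1 h7)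
    · exact h2 h7
  have hPp : IsPGroup s P := IsPGroup.of_card hP
  obtain ⟨R, hR⟩ := hE.exists_le_sylow
  obtain ⟨g, hg⟩ := MulAction.exists_smul_eq S R (hPp.toSylow hPi)
  have h6 : ∀ x ∈ E, g * x * g⁻¹ ∈ P := by
    intro x hx
    have h7 : g * x * g⁻¹ ∈ ((g • R : Sylow s S) : Subgroup S) := ⟨x, hR hx, rfl⟩
    rw [hg] at h7
    exact h7
  obtain ⟨x, hx, y, hy, hxy⟩ := hna
  apply hxy
  have h7 := hab _ (h6 x hx) _ (h6 y hy)
  have h8 : g * (x * y) * g⁻¹ = g * (y * x) * g⁻¹ := by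
    calc g * (x * y) * g⁻¹ = (g * x * g⁻¹) * (g * y * g⁻¹) := by group
      _ = (g * y * g⁻¹) * (g * x * g⁻¹) := h7
      _ = g * (y * x) * g⁻¹ := by group
  exact mul_left_cancel (mul_right_cancel h8)

end Cfsg.Agent.H171.RM
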