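import Cfsg.Agent.H543.RV.Count
import Cfsg.Agent.H444.FprTable

/-!
# S3849, piece P11: the Sylow count for `{s, t}` (helper171)

* `mod_of_dom` : helper543's count for a general prime `s` in place of 2;
* `nd_of_count` : no `D_{s,t}`;
* `nd_norm`, `nd_known` : the same for `|S|_t = t` with the numbers checked by the kernel.
-/

set_option autoImplicit false

namespace Cfsg.Agent.H171.RM

open Subgroup Cfsg Cfsg.Agent.H571.DExt Cfsg.Agent.H988.CPi Cfsg.Agent.H555.RV
open Cfsg.Agent.H543.RV (card_sub_of_le)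
open scoped Pointwise

universe u

variable {S : Type u} [Group S]

theorem card_of_hall [Finite S] {s p a b m : ℕ} (hs : s.Prime) (hp : p.Prime) (hp2 : p ≠ s)
    (hS : Nat.card S = s ^ a * p ^ b * m) (h2 : ¬ s ∣ m) (hm : ¬ p ∣ m) {K : Subgroup S}
    (hK : IsPiHall ({s, p} : Set ℕ) K) : Nat.card K = s ^ a * p ^ b := by
  have h1 := K.card_mul_index
  rw [hS] at h1
  refine (mul_unique (π := ({s, p} : Set ℕ)) hK.1 hK.2 ?_ ?_ h1)
  · intro r hr hd
    rcases hr.dvd_mul.1 hd with h | h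
    · left; exact (Nat.prime_dvd_prime_iff_eq hr hs).1 (hr.dvd_of_dvd_pow h)
    · right; exact (Nat.prime_dvd_prime_iff_eq hr hp).1 (hr.dvd_of_dvd_pow h)
  · rintro r hr hrπ hd
    rcases hrπ with rfl | h
    · exact h2 hd
    · rw [Set.mem_singleton_iff] at h
      subst h
      exact hm hd

theorem mod_of_dom [Finite S] {s p a b c m n : ℕ} (hs : s.Prime) (hp : p.Prime) (hp2 : p ≠ s) (hS : Nat.card S = s ^ a * p ^ c * m)
    (h2 : ¬ s ∣ m) (hm : ¬ p ∣ m) {P : Subgroup S} (hP : Nat.card P = p ^ c)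
    (hN : Nat.card (normalizer (P : Set S)) = s ^ b * n) (hn : ¬ s ∣ n) (hD : Dom ({s, p} : Set ℕ) S) :
    s ^ (a - b) ≡ 1 [MOD p] := by
  classical
  have hf2 : Fact s.Prime := ⟨hs⟩
  have hfp : Fact p.Prime := ⟨hp⟩
  have hn0 : n ≠ 0 := by rintro rfl; exact hn (dvd_zero s)
  -- the `{2,p}`-part of `N(P)`
  obtain ⟨T⟩ : Nonempty (Sylow s (normalizer (P : Set S))) := inferInstance
  set T₀ : Subgroup S := (T : Subgroup (normalizer (P : Set S))).map (normalizer (P : Set S)).subtype with hT₀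
  have hT₀N : T₀ ≤ normalizer (P : Set S) := map_subtype_le _
  have hcT : Nat.card T₀ = s ^ b := by
    rw [hT₀, card_map_of_injective (subtype_injective _), T.card_eq_multiplicity, hN,
      Nat.factorization_mul (pow_ne_zero _ hs.ne_zero) hn0, Nat.factorization_pow, Finsupp.add_apply, Finsupp.smul_apply,
      hs.factorization_self, Nat.factorization_eq_zero_of_not_dvd hn]
    simp
  have hX : PiN ({s, p} : Set ℕ) (Nat.card (T₀ ⊔ P : Subgroup S)) := by
    refine piN_sup hT₀N ?_ ?_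
    · rw [hcT]
      intro r hr hd
      left
      exact (Nat.prime_dvd_prime_iff_eq hr hs).1 (hr.dvd_of_dvd_pow hd)
    · rw [hP]
      intro r hr hd
      right
      exact (Nat.prime_dvd_prime_iff_eq hr hp).1 (hr.dvd_of_dvd_pow hd)
  obtain ⟨K₀, hK₀, hdom⟩ := hD
  obtain ⟨g, hg⟩ := hdom _ hX
  set K : Subgroup S := MulAut.conj g • K₀ with hKdef
  have hcK : Nat.card K = s ^ a * p ^ c := by
    rw [hKdef, Nat.card_congr (Subgroup.equivSMul (MulAut.conj g) K₀).toEquiv.symm]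
    exact card_of_hall hs hp hp2 hS h2 hm hK₀
  have hTK : T₀ ≤ K := le_sup_left.trans hg
  have hPK : P ≤ K := le_sup_right.trans hg
  -- the Sylow `p`-subgroup of `K`
  have hPp : IsPGroup p (P.subgroupOf K) := IsPGroup.of_card (n := c) (by rw [card_sub_of_le hPK, hP])
  have hidx : (P.subgroupOf K).index = s ^ a := by
    have h1 := (P.subgroupOf K).card_mul_index
    rw [card_sub_of_le hPK, hP, hcK, mul_comm (s ^ a)] at h1
    exact Nat.eq_of_mul_eq_mul_left (pow_pos hp.pos c) h1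
  have hnd : ¬ p ∣ (P.subgroupOf K).index := by
    rw [hidx]
    intro h
    exact hp2 ((Nat.prime_dvd_prime_iff_eq hp hs).1 (hp.dvd_of_dvd_pow h))
  let Q : Sylow p K := hPp.toSylow hnd
  have hQ : (Q : Subgroup K) = P.subgroupOf K := rfl
  have h1 : Nat.card (Sylow p K) = (normalizer ((Q : Subgroup K) : Set K)).index := Q.card_eq_index_normalizer
  have h3 : Nat.card (Sylow p K) ≡ 1 [MOD p] := card_sylow_modEq_one p K
  rw [h1, hQ] at h3
  set M : Subgroup K := normalizer ((P.subgroupOf K : Subgroup K) : Set K) with hM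
  have hMi := M.card_mul_index
  rw [hcK] at hMi
  -- `|M|`
  have hM1 : s ^ b * p ^ c ∣ Nat.card M := by
    refine Nat.Coprime.mul_dvd_of_dvd_of_dvd
      (Nat.Coprime.pow _ _ ((Nat.coprime_primes hs hp).2 (Ne.symm hp2))) ?_ ?_
    · rw [← hcT, ← card_sub_of_le hTK]
      refine card_dvd_of_le ?_
      intro x hx
      rw [hM]
      apply mem_normalizer_fintype
      intro y hy
      rw [SetLike.mem_coe, mem_subgroupOf] at hy ⊢
      exact (mem_normalizer_iff.1 (hT₀N (mem_subgroupOf.1 hx)) (y : S)).1 hy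
    · rw [← hP, ← card_sub_of_le hPK]
      exact card_dvd_of_le le_normalizer
  have hM2 : Nat.card M ∣ s ^ b * n := by
    rw [← hN, ← card_map_of_injective (subtype_injective K) (K := M)]
    refine card_dvd_of_le ?_
    rintro _ ⟨x, hx, rfl⟩
    apply mem_normalizer_fintype
    intro y hy
    have h4 := (mem_normalizer_iff.1 hx ⟨y, hPK hy⟩).1 (mem_subgroupOf.2 hy)
    exact mem_subgroupOf.1 h4
  obtain ⟨t, ht⟩ := hM1
  have hti : t * M.index = s ^ (a - b) ∧ b ≤ a := by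
    rw [ht] at hMi
    have h4 : s ^ b * (t * M.index) = s ^ a := by
      apply Nat.eq_of_mul_eq_mul_right (pow_pos hp.pos c)
      rw [← hMi]; ring
    have h5 : b ≤ a := by
      have : s ^ b ∣ s ^ a := ⟨_, h4.symm⟩
      exact (Nat.pow_dvd_pow_iff_le_right hs.one_lt).1 this
    refine ⟨?_, h5⟩
    apply Nat.eq_of_mul_eq_mul_left (show 0 < s ^ b from pow_pos hs.pos b)
    rw [h4, ← pow_add]
    congr 1
    omega
  have ht1 : t = 1 := by
    obtain ⟨k, hk, hk2⟩ := (Nat.dvd_prime_pow hs).1 ⟨_, hti.1.symm⟩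
    rcases Nat.eq_zero_or_pos k with rfl | hk0
    · rw [hk2, pow_zero]
    · exfalso
      apply hn
      rw [ht] at hM2
      have h4 : p ^ c * t ∣ n := by
        apply Nat.dvd_of_mul_dvd_mul_left (show 0 < s ^ b from pow_pos hs.pos b)
        rwa [← mul_assoc]
      have h5 : s ∣ t := by rw [hk2]; exact dvd_pow_self s (by omega)
      exact (h5.mul_left _).trans h4
  rw [ht1, one_mul] at hti
  rw [← hti.1]
  exact h3


/-- **no `D_{s,p}`** -/
theorem nd_of_count [Finite S] {s p a b c m n : ℕ} (hs : s.Prime) (hp : p.Prime) (hp2 : p ≠ s)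
    (hS : Nat.card S = s ^ a * p ^ c * m) (h2 : ¬ s ∣ m) (hm : ¬ p ∣ m) {P : Subgroup S} (hP : Nat.card P = p ^ c)
    (hN : Nat.card (normalizer (P : Set S)) = s ^ b * n) (hn : ¬ s ∣ n) (har : ¬ s ^ (a - b) % p = 1 % p) :
    ¬ Dom ({s, p} : Set ℕ) S := fun hD => har (mod_of_dom hs hp hp2 hS h2 hm hP hN hn hD)

/-- the numerical test: `|S| = N`, `|P| = q`, `|N(P)| = M` -/
def chk (N M q s t a b : ℕ) : Bool :=
  Nat.beq (N % (s ^ a * q)) 0 && !Nat.beq (N / (s ^ a * q) % s) 0 && !Nat.beq (N / (s ^ a * q) % t) 0 &&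
    Nat.beq (M % s ^ b) 0 && !Nat.beq (M / s ^ b % s) 0 && !Nat.beq (s ^ (a - b) % t) 1

theorem nd_chk [Finite S] {N M s t a b c : ℕ} (hs : s.Prime) (ht : t.Prime) (hst : t ≠ s) (hS : Nat.card S = N)
    {P : Subgroup S} (hP : Nat.card P = t ^ c) (hN : Nat.card (normalizer (P : Set S)) = M)
    (h : chk N M (t ^ c) s t a b = true) : ¬ Dom ({s, t} : Set ℕ) S := by
  simp only [chk, Bool.and_eq_true, Bool.not_eq_true'] at h
  obtain ⟨⟨⟨⟨⟨h1, h2⟩, h3⟩, h4⟩, h5⟩, h6⟩ := h
  have e1 : N % (s ^ a * t ^ c) = 0 := Nat.eq_of_beq_eq_true h1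
  have e2 : ¬ N / (s ^ a * t ^ c) % s = 0 := Nat.ne_of_beq_eq_false h2
  have e3 : ¬ N / (s ^ a * t ^ c) % t = 0 := Nat.ne_of_beq_eq_false h3
  have e4 : M % s ^ b = 0 := Nat.eq_of_beq_eq_true h4
  have e5 : ¬ M / s ^ b % s = 0 := Nat.ne_of_beq_eq_false h5
  have e6 : ¬ s ^ (a - b) % t = 1 := Nat.ne_of_beq_eq_false h6
  refine nd_of_count (a := a) (b := b) (c := c) (m := N / (s ^ a * t ^ c)) (n := M / s ^ b) (P := P) hs ht hst ?_ ?_ ?_ hP ?_ ?_ ?_
  · rw [hS]
    exact (Nat.mul_div_cancel' (Nat.dvd_of_mod_eq_zero e1)).symm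
  · exact fun hd => e2 (Nat.mod_eq_zero_of_dvd hd)
  · exact fun hd => e3 (Nat.mod_eq_zero_of_dvd hd)
  · rw [hN]
    exact (Nat.mul_div_cancel' (Nat.dvd_of_mod_eq_zero e4)).symm
  · exact fun hd => e5 (Nat.mod_eq_zero_of_dvd hd)
  · rwa [Nat.mod_eq_of_lt ht.one_lt]

/-- one subgroup of order `t` -/
theorem nd_norm [Finite S] {N M s t a b : ℕ} (hs : s.Prime) (ht : t.Prime) (hst : t ≠ s) (hS : Nat.card S = N)
    {P : Subgroup S} (hP : Nat.card P = t) (hN : Nat.card (normalizer (P : Set S)) = M)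
    (h : chk N M t s t a b = true) : ¬ Dom ({s, t} : Set ℕ) S :=
  nd_chk (c := 1) hs ht hst hS (by rw [hP, pow_one]) hN (by rw [pow_one]; exact h)

/-- the data of helper444 -/
theorem nd_known [Finite S] {N s t c e a b : ℕ} (hs : s.Prime) (hst : t ≠ s) (hS : Nat.card S = N)
    (K : H444.Fpr.Known S t c e) (h : chk N (t * c * e) t s t a b = true) : ¬ Dom ({s, t} : Set ℕ) S := by
  have := Fact.mk K.prime
  obtain ⟨x, hx⟩ := exists_prime_orderOf_dvd_card' t K.dvd
  exact nd_norm hs K.prime hst hS (P := zpowers x) (by rw [Nat.card_zpowers, hx]) (K.norm x hx) h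

end Cfsg.Agent.H171.RM
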