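import Cfsg.Agent.H464.RM.Tools
import Cfsg.Agent.H171.Odd.CoRows
import Cfsg.Agent.H171.Odd.ConwayB
import Cfsg.Agent.H171.Odd.LyB
import Cfsg.Agent.H555.RV.Crit
import Cfsg.Agent.NotCT.Orders

/-!
# S3849, P11: `Co3`, `Co2`, `Co1`, `Ly`, the pairs of type GL (helper171)
-/

set_option autoImplicit false

namespace Cfsg.Agent.H171.RM

open Subgroup Cfsg Cfsg.Agent.H571.DExt Cfsg.Agent.H171.Odd Cfsg.Agent.H555.RV Cfsg.Agent.H464.RM

universe u

variable {S : Type u} [Group S] [Finite S]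

/-- the 5-parts of `3 ^ k - 1` -/
def w5 (k : ℕ) : ℕ := if k % 4 = 0 then 1 else 0

theorem hw5 {a : ℕ} (ha : a ≤ 9) : ∀ k, 1 ≤ k → k ≤ a → ¬ 5 ^ (w5 k + 1) ∣ 3 ^ k - 1 := by
  intro k h1 h2
  have h3 : k ≤ 9 := h2.trans ha
  interval_cases k <;> decide +kernel

theorem inv_co3_3 (h : Spor.IsoCo3 S) : Inv1 3 5 S := by
  have hc := NotCT.Orders.co3 h
  obtain ⟨e⟩ := h
  exact Conway.tab ((Subgroup.inclusion Conway.co3_le).comp e.toMonoidHom)
      ((Subgroup.inclusion_injective Conway.co3_le).comp e.injective) PreUniqCo.Rows.leechV_ne (fun g => (e g).2.2)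
      (by rw [hc]; norm_num) (by rw [hc]; norm_num) (by rw [hc]; norm_num) (by rw [hc]; norm_num) (3, 5) (by simp)

theorem inv_co2_3 (h : Spor.IsoCo2 S) : Inv1 3 5 S := by
  have hc := NotCT.Orders.co2 h
  obtain ⟨e⟩ := h
  exact Conway.tab ((Subgroup.inclusion Conway.co2_le).comp e.toMonoidHom)
      ((Subgroup.inclusion_injective Conway.co2_le).comp e.injective) PreUniqCo.Rows.leechU_ne (fun g => (e g).2.2)
      (by rw [hc]; norm_num) (by rw [hc]; norm_num) (by rw [hc]; norm_num) (by rw [hc]; norm_num) (3, 5) (by simp)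

theorem no_co3_3_5 (h : Spor.IsoCo3 S) : ¬ Dom ({3, 5} : Set ℕ) S :=
  nd_of (no_gl (a := 7) (b := 3) (m := 1813504) Nat.prime_three Nat.prime_five (by norm_num)
    (by rw [NotCT.Orders.co3 h]; norm_num) (by norm_num) (by norm_num) (inv_co3_3 h) w5 (hw5 (by norm_num)) (by decide))

theorem no_co2_3_5 (h : Spor.IsoCo2 S) : ¬ Dom ({3, 5} : Set ℕ) S :=
  nd_of (no_gl (a := 6) (b := 3) (m := 464257024) Nat.prime_three Nat.prime_five (by norm_num)
    (by rw [NotCT.Orders.co2 h]; norm_num) (by norm_num) (by norm_num) (inv_co2_3 h) w5 (hw5 (by norm_num)) (by decide))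

theorem no_co1_3_5 (h : Spor.IsoCo1 S) : ¬ Dom ({3, 5} : Set ℕ) S := by
  have hc := NotCT.Orders.co1 h
  have hI : Inv1 3 5 S := by
    obtain ⟨e⟩ := h
    exact CoOne.tab hc e (3, 5) (by simp)
  exact nd_of (no_gl (a := 9) (b := 4) (m := 337979113472) Nat.prime_three Nat.prime_five (by norm_num)
    (by rw [hc]; norm_num) (by norm_num) (by norm_num) hI w5 (hw5 (by norm_num)) (by decide))

theorem no_co1_3_7 (h : Spor.IsoCo1 S) : ¬ Dom ({3, 7} : Set ℕ) S := by
  have hc := NotCT.Orders.co1 h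
  have hI : Inv1 3 7 S := by
    obtain ⟨e⟩ := h
    exact CoOne.tab hc e (3, 7) (by simp)
  refine nd_of (no_gl (a := 9) (b := 2) (m := 4310958080000) Nat.prime_three (by norm_num) (by norm_num)
    (by rw [hc]; norm_num) (by norm_num) (by norm_num) hI (fun k => if k = 6 then 1 else 0) ?_ (by decide))
  intro k h1 h2
  interval_cases k <;> decide +kernel

theorem no_ly_3_5 (h : Spor.IsoLy S) : ¬ Dom ({3, 5} : Set ℕ) S := by
  have hc := NotCT.Orders.ly h
  have hI : Inv1 3 5 S := by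
    obtain ⟨e⟩ := h
    exact Ly.tab e (3, 5) (by simp)
  exact nd_of (no_gl (a := 7) (b := 6) (m := 1514847488) Nat.prime_three Nat.prime_five (by norm_num)
    (by rw [hc]; norm_num) (by norm_num) (by norm_num) hI w5 (hw5 (by norm_num)) (by decide))

end Cfsg.Agent.H171.RM
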