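import Cfsg.Agent.H171.RM.LyEb

/-!
# S3849, P11: `Ly`: `{5, 7}`, `{5, 31}`, `{5, 11}` (helper171)
-/

set_option autoImplicit false

namespace Cfsg.Agent.H171.RM

open Subgroup Cfsg Cfsg.Agent.H571.DExt Cfsg.Agent.H988.CPi Cfsg.Agent.H464.RM Cfsg.Agent.H555.PiBS
open Cfsg.Agent.H171.Odd (Inv1 not_dvd_index_map)
open Cfsg.Agent.H555.RV (dom_equiv)

universe u

/-- `t` exactly divides `|S|`, `s ^ (a-1)` is the only power of `s` congruent to 1, `C_Q(x) = 1`: `O_s(K)` is abelian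
of index `s` in a Sylow `s`-subgroup -/
theorem no_ex {S : Type u} [Group S] [Finite S] {s t a m : ℕ} (hs : s.Prime) (ht : t.Prime) (hst : s ≠ t) (ha : a ≠ 0)
    (hS : Nat.card S = s ^ (a + 1) * t ^ 1 * m) (h2 : ¬ s ∣ m) (hm : ¬ t ∣ m) (hI : Inv1 s t S)
    (hN : ∀ x : S, orderOf x = t → ¬ s ∣ Nat.card (centralizer ({x} : Set S)))
    {c : S} {u : Fin 4 → S} (hE : Ex s c u) (hj : ∀ j, 1 ≤ j → j ≤ a + 1 → j ≠ a → ¬ t ∣ s ^ j - 1)
    (K : Subgroup S) : ¬ IsPiHall ({s, t} : Set ℕ) K := by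
  intro hK
  have hfs : Fact s.Prime := ⟨hs⟩
  have hft : Fact t.Prime := ⟨ht⟩
  obtain ⟨Q, h⟩ := exists_HQ hs ht hst hS h2 hm hI hK
  obtain ⟨⟨x, hxK⟩, hxo⟩ := exists_prime_orderOf_dvd_card' (G := K) t (by
    rw [h.card, pow_one]; exact dvd_mul_left _ _)
  rw [← orderOf_coe] at hxo
  change orderOf x = t at hxo
  have hxt : x ^ t = 1 := by rw [← hxo]; exact pow_orderOf_eq_one x
  have hxQ : x ∈ normalizer (Q : Set S) := h.nrm hxK
  -- a subgroup of `Q` normalised by `x` has order 1 or `s ^ a`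
  have key : ∀ R : Subgroup S, R ≤ Q → x ∈ normalizer (R : Set S) → R ≠ ⊥ → Nat.card R = s ^ a := by
    intro R hR hxR hR1
    have h3 := fix_card ht hxt R hxR
    have h4 : (R ⊓ centralizer {x} : Subgroup S) = ⊥ := by
      obtain ⟨k, -, hk⟩ := h.card_Q hs ht hst (R := (R ⊓ centralizer {x} : Subgroup S)) (inf_le_left.trans hR)
      rw [← card_eq_one, hk]
      rcases Nat.eq_zero_or_pos k with h4 | h4
      · rw [h4, pow_zero]
      · exfalso
        apply hN x hxo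
        have h5 := card_dvd_of_le (inf_le_right : (R ⊓ centralizer {x} : Subgroup S) ≤ centralizer {x})
        rw [hk] at h5
        exact (dvd_pow_self s h4.ne').trans h5
    rw [h4, card_bot] at h3
    obtain ⟨j, hja, hjR⟩ := h.card_Q hs ht hst hR
    rw [hjR] at h3 ⊢
    have h5 : t ∣ s ^ j - 1 := (Nat.modEq_iff_dvd' (Nat.one_le_pow _ _ hs.pos)).1 h3.symm
    have h6 : j ≠ 0 := by
      rintro rfl
      rw [pow_zero, card_eq_one] at hjR
      exact hR1 hjR
    by_contra h7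
    have h8 : j ≠ a := fun h9 => h7 (by rw [h9])
    exact hj j (Nat.pos_of_ne_zero h6) hja h8 h5
  have hQ1 : Q ≠ ⊥ := by
    rintro rfl
    have h3 : K ≤ (⊥ : Subgroup S) := by
      intro y hy
      exact h.cen ⟨hy, mem_centralizer_iff.2 fun z hz => by
        have : z = 1 := mem_bot.1 hz
        rw [this, one_mul, mul_one]⟩
    have h4 : x = 1 := mem_bot.1 (h3 hxK)
    rw [h4, orderOf_one] at hxo
    exact ht.one_lt.ne hxo
  have hQc := key Q le_rfl hxQ hQ1
  -- the centre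
  have hnt : Nontrivial Q := (nontrivial_iff_ne_bot Q).2 hQ1
  have hZ1 : (Q ⊓ centralizer (Q : Set S) : Subgroup S) ≠ ⊥ := by
    intro h3
    have hnc := h.sgp.center_nontrivial
    obtain ⟨⟨⟨c, hcP⟩, hcZ⟩, hc1⟩ := exists_ne (1 : center Q)
    have hc1 : c ≠ 1 := fun h5 => hc1 (by subst h5; rfl)
    have hcc : c ∈ (Q ⊓ centralizer (Q : Set S) : Subgroup S) :=
      ⟨hcP, mem_centralizer_iff.2 fun x hx => congrArg Subtype.val (mem_center_iff.1 hcZ ⟨x, hx⟩)⟩
    rw [h3] at hcc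
    exact hc1 (mem_bot.1 hcc)
  have hZn : x ∈ normalizer ((Q ⊓ centralizer (Q : Set S) : Subgroup S) : Set S) := by
    apply mem_normalizer_fintype
    rintro z ⟨hz, hzc⟩
    refine ⟨(mem_normalizer_iff.1 hxQ z).1 hz, ?_⟩
    have hzc : ∀ p ∈ Q, p * z = z * p := fun p hp => mem_centralizer_iff.1 hzc p hp
    refine mem_centralizer_iff.2 fun p hp => ?_
    have h3 : x⁻¹ * p * x ∈ Q := (mem_normalizer_iff''.1 hxQ p).1 hp
    have h4 := hzc _ h3
    calc p * (x * z * x⁻¹) = x * ((x⁻¹ * p * x) * z) * x⁻¹ := by group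
      _ = x * (z * (x⁻¹ * p * x)) * x⁻¹ := by rw [h4]
      _ = x * z * x⁻¹ * p := by group
  have hZc := key _ inf_le_left hZn hZ1
  have hZQ : (Q ⊓ centralizer (Q : Set S) : Subgroup S) = Q :=
    eq_of_le_of_card_ge inf_le_left (by rw [hZc, hQc])
  have hab : ∀ x ∈ Q, ∀ y ∈ Q, x * y = y * x := by
    intro x hx y hy
    have h4 : y ∈ (Q ⊓ centralizer (Q : Set S) : Subgroup S) := by rw [hZQ]; exact hy
    exact mem_centralizer_iff.1 h4.2 x hx
  -- the Sylow subgroup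
  obtain ⟨T⟩ : Nonempty (Sylow s K) := inferInstance
  set P : Subgroup S := (T : Subgroup K).map K.subtype with hP
  have hPp : IsPGroup s P := T.isPGroup'.map _
  have hPi : ¬ s ∣ P.index := not_dvd_index_map (by simp) hK T
  have hPK : P ≤ K := map_subtype_le _
  have hPc : Nat.card P = s ^ (a + 1) := by
    obtain ⟨n, hn⟩ := hPp.exists_card_eq
    have h5 := P.card_mul_index
    rw [hn, hS, mul_assoc] at h5
    rw [hn]
    apply Nat.dvd_antisymm
    · have h6 : s ^ n ∣ s ^ (a + 1) * (t ^ 1 * m) := ⟨_, h5.symm⟩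
      refine Nat.Coprime.dvd_of_dvd_mul_right (Nat.Coprime.pow_left _ (hs.coprime_iff_not_dvd.2 ?_)) h6
      rw [pow_one]
      intro h7
      rcases hs.dvd_mul.1 h7 with h8 | h8
      · exact hst ((Nat.prime_dvd_prime_iff_eq hs ht).1 h8)
      · exact h2 h8
    · have h6 : s ^ (a + 1) ∣ s ^ n * P.index := ⟨_, h5⟩
      exact Nat.Coprime.dvd_of_dvd_mul_right (Nat.Coprime.pow_left _ (hs.coprime_iff_not_dvd.2 hPi)) h6
  have hQP : Q ≤ P := by
    have h3 := h.sgp.to_sup_of_normal_left' hPp (hPK.trans h.nrm)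
    have h4 : P = Q ⊔ P := by
      apply eq_of_le_of_card_ge le_sup_right
      obtain ⟨n, hn⟩ := h3.exists_card_eq
      have h5 := (Q ⊔ P : Subgroup S).card_mul_index
      rw [hn, hS, mul_assoc] at h5
      have h6 : s ^ n ∣ s ^ (a + 1) * (t ^ 1 * m) := ⟨_, h5.symm⟩
      have h7 : s ^ n ∣ s ^ (a + 1) := by
        refine Nat.Coprime.dvd_of_dvd_mul_right (Nat.Coprime.pow_left _ (hs.coprime_iff_not_dvd.2 ?_)) h6
        rw [pow_one]
        intro h7
        rcases hs.dvd_mul.1 h7 with h8 | h8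
        · exact hst ((Nat.prime_dvd_prime_iff_eq hs ht).1 h8)
        · exact h2 h8
      rw [hn, hPc]
      exact Nat.le_of_dvd (pow_pos hs.pos _) h7
    rw [h4]
    exact le_sup_left
  obtain ⟨c', u', hE', hu'⟩ := hE.exists_in hPp hPi
  exact hE'.no_abelian hu' hQP (hPK.trans h.nrm) (by rw [hPc, hQc, pow_succ']) hab

namespace Lyons

open Cfsg.Agent.CpAut.LyFiveRow

theorem ex : Ex 5 (pw cw) fun i => pw (uw i) where
  up := u_pow
  cp := c_pow
  cc := c_comm
  cm := u_comm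
  n01 := u01
  n23 := u23
  k01 := ⟨-1, by
    have h1 : Commute (pw (uw 1)) (pw cw)⁻¹ := (show Commute (pw (uw 1)) (pw cw) from c_comm 1).inv_right
    calc pw (uw 1) * pw (uw 0) * (pw (uw 1))⁻¹ = pw (uw 0) * (pw (uw 1) * (pw cw)⁻¹ * (pw (uw 1))⁻¹) := by
          rw [c_eq]; group
      _ = pw (uw 0) * pw cw ^ (-1 : ℤ) := by rw [h1.eq, mul_inv_cancel_right, zpow_neg_one]⟩
  k23 := ⟨-2, by
    have h0 : Commute (pw (uw 3)) (pw cw) := c_comm 3
    have h1 : Commute (pw (uw 3)) (pw cw * pw cw)⁻¹ := (h0.mul_right h0).inv_right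
    calc pw (uw 3) * pw (uw 2) * (pw (uw 3))⁻¹ = pw (uw 2) * (pw (uw 3) * (pw cw * pw cw)⁻¹ * (pw (uw 3))⁻¹) := by
          rw [c_sq]; group
      _ = pw (uw 2) * pw cw ^ (-2 : ℤ) := by rw [h1.eq, mul_inv_cancel_right]; group⟩

theorem card_center {P : Subgroup Spor.Ly} (hP : Nat.card P = 5 ^ 6) {j : ℕ}
    (hj : Nat.card (P ⊓ centralizer (P : Set Spor.Ly) : Subgroup Spor.Ly) = 5 ^ j) : j ≤ 2 := by
  have := hfin
  have hf5 : Fact (Nat.Prime 5) := ⟨Nat.prime_five⟩
  have hPp : IsPGroup 5 P := IsPGroup.of_card hP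
  have hPi : ¬ 5 ∣ P.index := by
    intro h1
    have h2 := P.card_mul_index
    rw [hP, hc] at h2
    omega
  obtain ⟨c', u', hE', hu'⟩ := ex.exists_in hPp hPi
  have h1 := hE'.card_center hPp hu'
  rw [hj, hP, ← pow_add] at h1
  have := (Nat.pow_le_pow_iff_right (by norm_num : 1 < 5)).1 h1
  omega

theorem p5_7 : ¬ Dom ({5, 7} : Set ℕ) Spor.Ly := by
  have := hfin
  refine nd_of (RM.no_zc (a := 6) (m := 473281636608) Nat.prime_five (by norm_num) (by norm_num) (by norm_num)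
    (by rw [hc]; norm_num) (by norm_num) (by norm_num) (fun x hx => ?_) (fun P hP j hj1 hj => ?_))
  · rw [H314.LyOrb.card_normalizer_seven hx]; norm_num
  · have := card_center hP hj
    interval_cases j <;> norm_num

theorem p5_31 : ¬ Dom ({5, 31} : Set ℕ) Spor.Ly := by
  have := hfin
  refine nd_of (RM.no_zc (a := 6) (m := 106870046976) Nat.prime_five (by norm_num) (by norm_num) (by norm_num)
    (by rw [hc]; norm_num) (by norm_num) (by norm_num) (fun x hx => ?_) (fun P hP j hj1 hj => ?_))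
  · rw [(H511.Cyc.Ly.dat31 hx).2]; norm_num
  · have := card_center hP hj
    interval_cases j <;> norm_num

theorem p5_11 : ¬ Dom ({5, 11} : Set ℕ) Spor.Ly := by
  have := hfin
  refine nd_of (no_ex (a := 5) (m := 301179223296) Nat.prime_five (by norm_num) (by norm_num) (by norm_num)
    (by rw [hc]; norm_num) (by norm_num) (by norm_num) (Odd.Ly.tab (MulEquiv.refl _) (5, 11) (by simp))
    (fun x hx => ?_) ex (fun j h1 h2 h3 => ?_))
  · have h1 := (H438.Fpr.Ly.cn11 (R := zpowers x) (by rw [Nat.card_zpowers, hx])).1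
    have h2 : centralizer ((zpowers x : Subgroup Spor.Ly) : Set Spor.Ly) = centralizer {x} := by
      rw [zpowers_eq_closure, centralizer_closure]
    rw [h2] at h1
    intro h3
    have := h3.trans h1
    revert this
    norm_num
  · interval_cases j <;> first | exact absurd rfl h3 | norm_num

end Lyons

variable {S : Type u} [Group S] [Finite S]

theorem no_ly_5_7 (h : Spor.IsoLy S) : ¬ Dom ({5, 7} : Set ℕ) S := by
  obtain ⟨e⟩ := h
  exact fun hD => Lyons.p5_7 (dom_equiv e hD)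
theorem no_ly_5_11 (h : Spor.IsoLy S) : ¬ Dom ({5, 11} : Set ℕ) S := by
  obtain ⟨e⟩ := h
  exact fun hD => Lyons.p5_11 (dom_equiv e hD)
theorem no_ly_5_31 (h : Spor.IsoLy S) : ¬ Dom ({5, 31} : Set ℕ) S := by
  obtain ⟨e⟩ := h
  exact fun hD => Lyons.p5_31 (dom_equiv e hD)

end Cfsg.Agent.H171.RM
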