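import Cfsg.Agent.H171.RM.HNWords
import Cfsg.Agent.H171.RM.LyFives
import Cfsg.Agent.H438.Fpr.HNA

/-!
# S3849, P11: `HN`: `{5, 11}` (helper171)
-/

set_option autoImplicit false

namespace Cfsg.Agent.H171.RM

open Subgroup Cfsg Cfsg.Agent.H571.DExt Cfsg.Agent.H464.RM
open Cfsg.Agent.H171.Odd (Inv1 inv1_of_cent)
open Cfsg.Agent.H555.RV (dom_equiv)

universe u

namespace HN

open Cfsg.Agent.Lib.PackMatGroup Cfsg.Agent.HN.Rep Cfsg.Agent.H171.RM.HNData Cfsg.Agent.H68.MeetHN

theorem ex : Ex 5 zH u where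
  up i := by fin_cases i; exacts [p0, p1, p2, p3]
  cp := z5
  cc i := by fin_cases i; exacts [z0, z1, z2, z3]
  cm i j hi hj := by rcases hi with rfl | rfl <;> rcases hj with rfl | rfl; exacts [m02, m03, m12, m13]
  n01 h := by
    apply z_ne
    have h1 : evG gens u0 * evG gens u1 = evG gens u0 * evG gens u1 * zH := by
      have h2 : evG gens u0 * evG gens u1 = evG gens u1 * evG gens u0 := h
      conv_rhs => rw [h2]
      exact k01
    exact (left_eq_mul.1 h1)
  n23 h := by
    have h1 : evG gens u2 * evG gens u3 = evG gens u2 * evG gens u3 * (zH * zH * zH) := by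
      have h2 : evG gens u2 * evG gens u3 = evG gens u3 * evG gens u2 := h
      conv_rhs => rw [h2]
      exact k23
    have h3 : zH * zH * zH = 1 := left_eq_mul.1 h1
    apply z_ne
    calc zH = (zH * zH * zH) * (zH * zH * zH) * (zH ^ 5)⁻¹ := by group
      _ = 1 := by rw [h3, z5]; group
  k01 := ⟨-1, by
    have h1 : Commute (evG gens u1) zH⁻¹ := (show Commute (evG gens u1) zH from z1).inv_right
    calc evG gens u1 * evG gens u0 * (evG gens u1)⁻¹ =
          (evG gens u1 * evG gens u0 * zH) * zH⁻¹ * (evG gens u1)⁻¹ := by group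
      _ = evG gens u0 * (evG gens u1 * zH⁻¹) * (evG gens u1)⁻¹ := by rw [← k01]; group
      _ = evG gens u0 * zH ^ (-1 : ℤ) := by rw [h1.eq]; group⟩
  k23 := ⟨-3, by
    have h1 : Commute (evG gens u3) (zH * zH * zH)⁻¹ :=
      (((show Commute (evG gens u3) zH from z3).mul_right z3).mul_right z3).inv_right
    calc evG gens u3 * evG gens u2 * (evG gens u3)⁻¹ =
          (evG gens u3 * evG gens u2 * (zH * zH * zH)) * (zH * zH * zH)⁻¹ * (evG gens u3)⁻¹ := by group
      _ = evG gens u2 * (evG gens u3 * (zH * zH * zH)⁻¹) * (evG gens u3)⁻¹ := by rw [← k23]; group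
      _ = evG gens u2 * zH ^ (-3 : ℤ) := by rw [h1.eq]; group⟩

theorem fin : Finite Spor.HN := Nat.finite_of_card_ne_zero (by rw [card_HN]; norm_num)

theorem cent11 {x : Spor.HN} (hx : orderOf x = 11) : ¬ 5 ∣ Nat.card (centralizer ({x} : Set Spor.HN)) := by
  have := fin
  intro h
  have h1 := h.trans (Cfsg.Agent.H438.Fpr.HN.cent11 hx)
  norm_num at h1

theorem inv : Inv1 5 11 Spor.HN := by
  have := fin
  refine inv1_of_cent (a := 5) (b := 1) (w := 1) (by norm_num) (by norm_num) (by rw [card_HN]; norm_num)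
    (by rw [card_HN]; norm_num) (fun k h1 h2 => ?_) (fun y hy h => ?_)
  · interval_cases k; norm_num
  · exact cent11 hy ((dvd_pow_self 5 (by norm_num)).trans h)

theorem p5_11 : ¬ Dom ({5, 11} : Set ℕ) Spor.HN := by
  have := fin
  refine nd_of (no_ex (a := 5) (m := 1588543488) Nat.prime_five (by norm_num) (by norm_num) (by norm_num)
    (by rw [card_HN]; norm_num) (by norm_num) (by norm_num) inv (fun x hx => cent11 hx) ex (fun j h1 h2 h3 => ?_))
  interval_cases j <;> first | exact absurd rfl h3 | norm_num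

end HN

theorem no_hn_5_11 {S : Type u} [Group S] [Finite S] (h : Spor.IsoHN S) : ¬ Dom ({5, 11} : Set ℕ) S := by
  obtain ⟨e⟩ := h
  exact fun hD => HN.p5_11 (dom_equiv e hD)

end Cfsg.Agent.H171.RM
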