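import Cfsg.Agent.H68.MeetHN
import Cfsg.Agent.H171.RM.HNData

/-!
# HN, `p = 5`: an extraspecial subgroup `5 ^ (1 + 4)` (helper171, S3849 P11)
-/

set_option autoImplicit false
set_option maxRecDepth 10000

namespace Cfsg.Agent.H171.RM.HN

open Cfsg Cfsg.Agent.Lib.PackMat Cfsg.Agent.Lib.PackMatGroup Cfsg.Agent.Lib.PackMatMul Cfsg.Agent.Lib.PackMatOrbit
  Cfsg.Agent.Lib.PackMatLin Cfsg.Agent.HN.RepData Cfsg.Agent.HN.Rep Cfsg.Agent.HN.Lower
open Cfsg.Agent.H68.MeetHN (rows_eq codesA zH okA)
open Cfsg.Agent.H68.MeetHNData (A)
open Cfsg.Agent.H171.RM.HNData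
open Subgroup

theorem ok0 : okG C U0 = true := by decide +kernel
theorem ok1 : okG C U1 = true := by decide +kernel
theorem ok2 : okG C U2 = true := by decide +kernel
theorem ok3 : okG C U3 = true := by decide +kernel

/-- check in chunks of 20 rows -/
noncomputable def chk (u v : List ℕ) (k : ℕ) : Bool := checkEq C u v (k * 20) (min 20 (133 - k * 20))

theorem rows_chk {u v : List ℕ} (h0 : chk u v 0 = true) (h1 : chk u v 1 = true) (h2 : chk u v 2 = true)
    (h3 : chk u v 3 = true) (h4 : chk u v 4 = true) (h5 : chk u v 5 = true) (h6 : chk u v 6 = true) :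
    ∀ i < C.n, run C u (unitRow C 1 i) = run C v (unitRow C 1 i) := by
  refine rows_eq (d := 20) (by norm_num) fun k hk => ?_
  have hk' : k < 7 := by omega
  interval_cases k
  exacts [h0, h1, h2, h3, h4, h5, h6]

theorem r0 : ∀ i < C.n, run C (cw L u0) (unitRow C 1 i) = run C [U0] (unitRow C 1 i) :=
  rows_chk (by decide +kernel) (by decide +kernel) (by decide +kernel) (by decide +kernel) (by decide +kernel)
    (by decide +kernel) (by decide +kernel)

theorem r1 : ∀ i < C.n, run C (cw L u1) (unitRow C 1 i) = run C [U1] (unitRow C 1 i) :=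
  rows_chk (by decide +kernel) (by decide +kernel) (by decide +kernel) (by decide +kernel) (by decide +kernel)
    (by decide +kernel) (by decide +kernel)
theorem r2 : ∀ i < C.n, run C (cw L u2) (unitRow C 1 i) = run C [U2] (unitRow C 1 i) :=
  rows_chk (by decide +kernel) (by decide +kernel) (by decide +kernel) (by decide +kernel) (by decide +kernel)
    (by decide +kernel) (by decide +kernel)
theorem r3 : ∀ i < C.n, run C (cw L u3) (unitRow C 1 i) = run C [U3] (unitRow C 1 i) :=
  rows_chk (by decide +kernel) (by decide +kernel) (by decide +kernel) (by decide +kernel) (by decide +kernel)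
    (by decide +kernel) (by decide +kernel)

/-- the four elements -/
noncomputable def u : Fin 4 → Spor.HN := ![evG gens u0, evG gens u1, evG gens u2, evG gens u3]

theorem c0 : Codes C (rho (evG gens u0)) U0 := by
  rw [rho_word]
  exact Codes.of_rows good one_lt codes (by decide) ok0 r0
theorem c1 : Codes C (rho (evG gens u1)) U1 := by
  rw [rho_word]
  exact Codes.of_rows good one_lt codes (by decide) ok1 r1
theorem c2 : Codes C (rho (evG gens u2)) U2 := by
  rw [rho_word]
  exact Codes.of_rows good one_lt codes (by decide) ok2 r2
theorem c3 : Codes C (rho (evG gens u3)) U3 := by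
  rw [rho_word]
  exact Codes.of_rows good one_lt codes (by decide) ok3 r3

/-- codes of a list -/
def LC (us : List Spor.HN) (Us : List ℕ) : Prop := List.Forall₂ (fun u U => Codes C (rho u) U) us Us

theorem LC.prod {us : List Spor.HN} {Us : List ℕ} (h : LC us Us) :
    ((rho us.prod : U C) : M C) = (Us.map (mat C)).prod := by
  induction h with
  | nil => simp
  | cons h1 _ ih => rw [List.prod_cons, map_mul, Units.val_mul, ih, List.map_cons, List.prod_cons, h1.eq]

theorem LC.ok {us : List Spor.HN} {Us : List ℕ} (h : LC us Us) : ∀ g ∈ Us, okG C g = true := by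
  induction h with
  | nil => simp
  | cons h1 _ ih =>
    intro g hg
    rcases List.mem_cons.1 hg with rfl | h
    · exact h1.ok
    · exact ih g h

theorem rel {us vs : List Spor.HN} {Us Vs : List ℕ} (h1 : LC us Us) (h2 : LC vs Vs)
    (h : ∀ i < C.n, run C Us (unitRow C 1 i) = run C Vs (unitRow C 1 i)) : us.prod = vs.prod := by
  have := Cfsg.Agent.CpAutHN.Pairs.instSimple
  apply Cfsg.Agent.HN.A12Group.rho_injective
  apply Units.ext
  rw [h1.prod, h2.prod]
  exact prod_eq_of_rows (good_of_check good) one_lt h1.ok h2.ok h

theorem pow5 {v : Spor.HN} {V : ℕ} (h : Codes C (rho v) V)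
    (hr : ∀ i < C.n, run C [V, V, V, V, V] (unitRow C 1 i) = run C [] (unitRow C 1 i)) : v ^ 5 = 1 := by
  have h1 := rel (us := [v, v, v, v, v]) (vs := []) (.cons h (.cons h (.cons h (.cons h (.cons h .nil))))) .nil hr
  simpa [pow_succ, mul_assoc] using h1

theorem comm {v w : Spor.HN} {V W : ℕ} (h : Codes C (rho v) V) (h' : Codes C (rho w) W)
    (hr : ∀ i < C.n, run C [V, W] (unitRow C 1 i) = run C [W, V] (unitRow C 1 i)) : v * w = w * v := by
  have h1 := rel (us := [v, w]) (vs := [w, v]) (.cons h (.cons h' .nil)) (.cons h' (.cons h .nil)) hr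
  simpa using h1

theorem z5 : zH ^ 5 = 1 := pow5 codesA (rows_chk (by decide +kernel) (by decide +kernel) (by decide +kernel)
  (by decide +kernel) (by decide +kernel) (by decide +kernel) (by decide +kernel))

theorem p0 : evG gens u0 ^ 5 = 1 := pow5 c0 (rows_chk (by decide +kernel) (by decide +kernel) (by decide +kernel)
  (by decide +kernel) (by decide +kernel) (by decide +kernel) (by decide +kernel))
theorem p1 : evG gens u1 ^ 5 = 1 := pow5 c1 (rows_chk (by decide +kernel) (by decide +kernel) (by decide +kernel)
  (by decide +kernel) (by decide +kernel) (by decide +kernel) (by decide +kernel))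
theorem p2 : evG gens u2 ^ 5 = 1 := pow5 c2 (rows_chk (by decide +kernel) (by decide +kernel) (by decide +kernel)
  (by decide +kernel) (by decide +kernel) (by decide +kernel) (by decide +kernel))
theorem p3 : evG gens u3 ^ 5 = 1 := pow5 c3 (rows_chk (by decide +kernel) (by decide +kernel) (by decide +kernel)
  (by decide +kernel) (by decide +kernel) (by decide +kernel) (by decide +kernel))

theorem z0 : evG gens u0 * zH = zH * evG gens u0 := comm c0 codesA (rows_chk (by decide +kernel) (by decide +kernel)
  (by decide +kernel) (by decide +kernel) (by decide +kernel) (by decide +kernel) (by decide +kernel))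
theorem z1 : evG gens u1 * zH = zH * evG gens u1 := comm c1 codesA (rows_chk (by decide +kernel) (by decide +kernel)
  (by decide +kernel) (by decide +kernel) (by decide +kernel) (by decide +kernel) (by decide +kernel))
theorem z2 : evG gens u2 * zH = zH * evG gens u2 := comm c2 codesA (rows_chk (by decide +kernel) (by decide +kernel)
  (by decide +kernel) (by decide +kernel) (by decide +kernel) (by decide +kernel) (by decide +kernel))
theorem z3 : evG gens u3 * zH = zH * evG gens u3 := comm c3 codesA (rows_chk (by decide +kernel) (by decide +kernel)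
  (by decide +kernel) (by decide +kernel) (by decide +kernel) (by decide +kernel) (by decide +kernel))

theorem m02 : evG gens u0 * evG gens u2 = evG gens u2 * evG gens u0 := comm c0 c2 (rows_chk (by decide +kernel)
  (by decide +kernel) (by decide +kernel) (by decide +kernel) (by decide +kernel) (by decide +kernel) (by decide +kernel))
theorem m03 : evG gens u0 * evG gens u3 = evG gens u3 * evG gens u0 := comm c0 c3 (rows_chk (by decide +kernel)
  (by decide +kernel) (by decide +kernel) (by decide +kernel) (by decide +kernel) (by decide +kernel) (by decide +kernel))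
theorem m12 : evG gens u1 * evG gens u2 = evG gens u2 * evG gens u1 := comm c1 c2 (rows_chk (by decide +kernel)
  (by decide +kernel) (by decide +kernel) (by decide +kernel) (by decide +kernel) (by decide +kernel) (by decide +kernel))
theorem m13 : evG gens u1 * evG gens u3 = evG gens u3 * evG gens u1 := comm c1 c3 (rows_chk (by decide +kernel)
  (by decide +kernel) (by decide +kernel) (by decide +kernel) (by decide +kernel) (by decide +kernel) (by decide +kernel))

theorem k01 : evG gens u0 * evG gens u1 = evG gens u1 * evG gens u0 * zH := by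
  have h1 := rel (us := [evG gens u0, evG gens u1]) (vs := [evG gens u1, evG gens u0, zH]) (.cons c0 (.cons c1 .nil))
    (.cons c1 (.cons c0 (.cons codesA .nil))) (rows_chk (by decide +kernel)
    (by decide +kernel) (by decide +kernel) (by decide +kernel) (by decide +kernel) (by decide +kernel) (by decide +kernel))
  simpa [mul_assoc] using h1

theorem k23 : evG gens u2 * evG gens u3 = evG gens u3 * evG gens u2 * (zH * zH * zH) := by
  have h1 := rel (us := [evG gens u2, evG gens u3]) (vs := [evG gens u3, evG gens u2, zH, zH, zH])
    (.cons c2 (.cons c3 .nil)) (.cons c3 (.cons c2 (.cons codesA (.cons codesA (.cons codesA .nil)))))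
    (rows_chk (by decide +kernel)
    (by decide +kernel) (by decide +kernel) (by decide +kernel) (by decide +kernel) (by decide +kernel) (by decide +kernel))
  simpa [mul_assoc] using h1

theorem z_ne : zH ≠ 1 := by
  intro h
  have h1 : ∀ y : Spor.HN, y = 1 := fun y => Cfsg.Agent.H68.MeetHN.trivial_cent (by rw [h]; simp) (by rw [h]; simp)
  have h2 : Subsingleton Spor.HN := ⟨fun a b => by rw [h1 a, h1 b]⟩
  have h3 := Cfsg.Agent.H68.MeetHN.card_HN
  rw [Nat.card_unique] at h3
  norm_num at h3

end Cfsg.Agent.H171.RM.HN
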