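import Cfsg.Agent.H537.OreM.Even
import Cfsg.Agent.H19.Odd.HeEl7
import Cfsg.Agent.H436.HeFive

/-!
# S3509, row M, box B3, the He part (helper171)

* `he_even` : elements of order 3 and 5 of the Held group commute with an involution;
* `i7_he` : the elements of order 3 and 5 of the Monster commuting with an element `y` of order 7, `C(y)/⟨y⟩ ≅ He`.
-/

set_option autoImplicit false
set_option maxRecDepth 100000

namespace Cfsg.Agent.H171.RM.HeEven

open Subgroup
open Cfsg.Spor.He (Gen)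
open Cfsg.Agent.SporadicB.HePerm (act wd phi phi_wd_apply)
open Cfsg.Agent.FixBN.HeStab Cfsg.Agent.KFacts.He.Lv Cfsg.Agent.CpAutHe.Cnt Cfsg.Agent.H19.Odd.HeCnt
open Cfsg.Agent.H19.Odd Cfsg.Agent.H19.Odd.HeEl

theorem evenA : 2 ∣ Nat.card ↥(centralizer ({wd XA} : Set Cfsg.Spor.He)) := Dvd.dvd.trans (by norm_num) eight

theorem evenB : 2 ∣ Nat.card ↥(centralizer ({wd XB} : Set Cfsg.Spor.He)) :=
  even_of (T := [.e]) (i := 30) (by decide +kernel) (by decide +kernel) (by decide +kernel)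

theorem three_even {b : Cfsg.Spor.He} (hb : orderOf b = 3) : 2 ∣ Nat.card ↥(centralizer ({b} : Set Cfsg.Spor.He)) := by
  have h3 : Fact (Nat.Prime 3) := ⟨Nat.prime_three⟩
  have key : ∀ {y g : Cfsg.Spor.He}, g * y * g⁻¹ = wd XA → 2 ∣ Nat.card ↥(centralizer ({y} : Set Cfsg.Spor.He)) := by
    intro y g h
    rw [Heis.card_cent_eq (b := y) (y := wd XA) (g := g) (by rw [h])]
    exact evenA
  have key2 : ∀ {y g : Cfsg.Spor.He}, g * y * g⁻¹ = wd XB → 2 ∣ Nat.card ↥(centralizer ({y} : Set Cfsg.Spor.He)) := by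
    intro y g h
    rw [Heis.card_cent_eq (b := y) (y := wd XB) (g := g) (by rw [h])]
    exact evenB
  obtain ⟨y, hy, g, hg⟩ := Heis.reps3 A_pow U3_pow V3_pow A_U3 A_V3 U3_V3 (by norm_num) A_ne (not_dvd (by decide)) hb
  rw [Heis.card_cent_eq hg]
  rcases hy with rfl | rfl | ⟨i, hi, rfl⟩
  · exact evenA
  · exact key g3u
  · interval_cases i
    · rw [pow_zero, mul_one]
      exact key g3v
    · rw [pow_one, ← wd_append]
      exact key2 g3a
    · rw [pow_two, ← wd_append, ← wd_append]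
      exact key2 g3b

theorem five_even {b : Cfsg.Spor.He} (hb : orderOf b = 5) : 2 ∣ Nat.card ↥(centralizer ({b} : Set Cfsg.Spor.He)) := by
  have hfin := H436.HeFive.finite_he
  obtain ⟨u, hu⟩ := H436.HeFive.exists_conj hb
  have h1 : orderOf (u * b * u⁻¹) = 5 := by
    rw [← hb]
    exact MulEquiv.orderOf_eq (MulAut.conj u) b
  have h2 : zpowers (u * b * u⁻¹) = zpowers (wd H436.HeFive.X) := by
    apply Subgroup.eq_of_le_of_card_ge
    · rw [zpowers_le]; exact hu
    · rw [Nat.card_zpowers, Nat.card_zpowers, h1, H436.HeFive.orderX]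
  rw [Heis.card_cent_eq h2]
  have h4 : wd [.a] ∈ centralizer ({wd H436.HeFive.X} : Set Cfsg.Spor.He) :=
    mem_centralizer_singleton_iff.2 H436.HeFive.commA
  have h5 := orderOf_dvd_natCard (⟨wd [.a], h4⟩ : ↥(centralizer ({wd H436.HeFive.X} : Set Cfsg.Spor.He)))
  rwa [Subgroup.orderOf_mk, H436.HeFive.orderA] at h5

/-- **Elements of order 3 and 5 of the Held group have centralizers of even order.** -/
theorem he_even {q : ℕ} (hq : q = 3 ∨ q = 5) {b : Cfsg.Spor.He} (hb : orderOf b = q) :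
    2 ∣ Nat.card ↥(centralizer ({b} : Set Cfsg.Spor.He)) := by
  rcases hq with rfl | rfl
  · exact three_even hb
  · exact five_even hb

/-- the form with an involution -/
theorem he_inv {q : ℕ} (hq : q = 3 ∨ q = 5) {b : Cfsg.Spor.He} (hb : orderOf b = q) :
    ∃ t : Cfsg.Spor.He, orderOf t = 2 ∧ t * b = b * t := by
  have hfin := H436.HeFive.finite_he
  have : Fact (Nat.Prime 2) := ⟨Nat.prime_two⟩
  obtain ⟨t, ht⟩ := exists_prime_orderOf_dvd_card' 2 (he_even hq hb)
  exact ⟨t, by rw [Subgroup.orderOf_coe, ht], mem_centralizer_singleton_iff.1 t.2⟩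

end Cfsg.Agent.H171.RM.HeEven

namespace Cfsg.Agent.H171.RM

open Cfsg Cfsg.Agent.MonsterX Cfsg.Agent.MonsterX.InstData Cfsg.Agent.MonsterX.MainPack Cfsg.Agent.MonsterU
open Cfsg.Agent.MonsterP Cfsg.Agent.MonsterN Cfsg.Agent.LThreeMB
open Cfsg.Agent.MonsterX.MainBasic Cfsg.Agent.MonsterX.MainSimple Cfsg.Agent.MonsterX.Model
open Cfsg.Agent.MonsterU.Lam2 Cfsg.Agent.MonsterU.TwoCls
open Cfsg.Agent.BpSpor.MBigModel Cfsg.Agent.H199.NSmMon Cfsg.Agent.H537.OreM
open Subgroup (centralizer zpowers mem_centralizer_singleton_iff)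

/-- **the He case** : `C(y)/⟨y⟩ ≅ He` -/
theorem i7_he {q : ℕ} (hq : q = 3 ∨ q = 5) {x y : MG} (hx : orderOf x = q) (hy : orderOf y = 7) (e : XX y ≃* Cfsg.Spor.He)
    (h : x * y = y * x) : ∃ t : MG, orderOf t = 2 ∧ t * x = x * t := by
  have hfin := finite
  have : Fact (Nat.Prime 2) := ⟨Nat.prime_two⟩
  have h1 : 2 ∣ Nat.card ↥(centralizer ({x} : Set MG)) :=
    even_of_iso (p := q) (by rcases hq with rfl | rfl <;> norm_num) hx (by rw [hy]; decide)
      (by rw [hy]; rcases hq with rfl | rfl <;> norm_num) h e (fun a ha => HeEven.he_even hq ha)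
  obtain ⟨t, ht⟩ := exists_prime_orderOf_dvd_card' 2 h1
  exact ⟨t, by rw [Subgroup.orderOf_coe, ht], mem_centralizer_singleton_iff.1 t.2⟩

end Cfsg.Agent.H171.RM
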