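import Cfsg.Agent.H171.RM.Count
import Cfsg.Agent.H171.RV.Sol
import Cfsg.Agent.H464.RM.ZTP

/-!
# S3849, P11: solubility of the Hall `π`-subgroups, `3 ∉ π`: tools (helper171)

* `szc_le` : the orders of the Suzuki groups dividing `N`, `2 ^ (4 * B + 2) ∤ N`;
* `count_pi`, `card_pi`, `count_false` : the Sylow count in a Hall `π`-subgroup;
* `sol_of_count` : solubility of the Hall `π`-subgroups of `S` with `D_π`;
* `sol_of_zt` : solubility from the unique central involution.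
-/

set_option autoImplicit false

namespace Cfsg.Agent.H171.RM

open Subgroup Cfsg Cfsg.Agent.H571.DExt Cfsg.Agent.H988.CPi Cfsg.Agent.H555.RV Cfsg.Agent.H171.RV.SzHall
open Cfsg.Agent.H543.RV (card_sub_of_le)
open scoped Pointwise

universe u

variable {S : Type u} [Group S]

theorem two_pow_dvd_szc (m : ℕ) : 2 ^ (4 * m + 2) ∣ szc m := by
  unfold szc
  refine Dvd.dvd.mul_right (Dvd.dvd.mul_right ?_ _) _
  rw [← pow_mul]
  exact pow_dvd_pow 2 (by omega)

theorem szc_le {N B : ℕ} (hB : ¬ 2 ^ (4 * B + 2) ∣ N) {P : ℕ → Prop}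
    (h : ∀ m < B, 1 ≤ m → N % szc m = 0 → P m) (m : ℕ) (hm : 1 ≤ m) (hd : szc m ∣ N) : P m := by
  refine h m ?_ hm (Nat.mod_eq_zero_of_dvd hd)
  by_contra hcon
  exact hB (((pow_dvd_pow 2 (by omega)).trans (two_pow_dvd_szc m)).trans hd)

/-- the Sylow count in a Hall `π`-subgroup -/
theorem count_pi [Finite S] {π : Set ℕ} {p b n : ℕ} (hp : p.Prime) (hpπ : p ∈ π) (h2 : 2 ∈ π) (hp2 : p ≠ 2)
    (hpp : ¬ p * p ∣ Nat.card S) {P : Subgroup S} (hP : Nat.card P = p)
    (hN : Nat.card (normalizer (P : Set S)) = p * 2 ^ b * n) (hn : ∀ q : ℕ, q.Prime → q ∣ n → q ∉ π)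
    (hD : Dom π S) {H : Subgroup S} (hH : IsPiHall π H) : ∃ f, Nat.card H = p * 2 ^ b * f ∧ f % p = 1 := by
  classical
  have hf2 : Fact (Nat.Prime 2) := ⟨Nat.prime_two⟩
  have hfp : Fact p.Prime := ⟨hp⟩
  have hNpos : 0 < Nat.card (normalizer (P : Set S)) := Nat.card_pos
  have hn0 : n ≠ 0 := by rintro rfl; rw [hN, mul_zero] at hNpos; exact lt_irrefl _ hNpos
  have hn2 : ¬ 2 ∣ n := fun h => hn 2 Nat.prime_two h h2
  have hp2' : ¬ 2 ∣ p := fun h => hp2 ((Nat.prime_dvd_prime_iff_eq Nat.prime_two hp).1 h).symm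
  -- the `{2,p}`-part of `N(P)`
  obtain ⟨T⟩ : Nonempty (Sylow 2 (normalizer (P : Set S))) := inferInstance
  set T₀ : Subgroup S := (T : Subgroup (normalizer (P : Set S))).map (normalizer (P : Set S)).subtype with hT₀
  have hT₀N : T₀ ≤ normalizer (P : Set S) := map_subtype_le _
  have hcT : Nat.card T₀ = 2 ^ b := by
    rw [hT₀, card_map_of_injective (subtype_injective _), T.card_eq_multiplicity, hN,
      show p * 2 ^ b * n = 2 ^ b * (p * n) by ring, Nat.factorization_mul (by positivity)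
      (mul_ne_zero hp.ne_zero hn0), Nat.factorization_pow, Finsupp.add_apply, Finsupp.smul_apply,
      Nat.prime_two.factorization_self, Nat.factorization_eq_zero_of_not_dvd (n := p * n) (by
        intro h
        rcases Nat.prime_two.dvd_mul.1 h with h | h
        · exact hp2' h
        · exact hn2 h)]
    simp
  have hX : PiN π (Nat.card (T₀ ⊔ P : Subgroup S)) := by
    refine piN_sup hT₀N ?_ ?_
    · rw [hcT]
      intro r hr hd
      rwa [(Nat.prime_dvd_prime_iff_eq hr Nat.prime_two).1 (hr.dvd_of_dvd_pow hd)]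
    · rw [hP]
      intro r hr hd
      rwa [(Nat.prime_dvd_prime_iff_eq hr hp).1 hd]
  obtain ⟨K₀, hK₀, hdom⟩ := hD
  obtain ⟨g, hg⟩ := hdom _ hX
  set K : Subgroup S := MulAut.conj g • K₀ with hKdef
  have hcK : Nat.card K = Nat.card H := by
    rw [hKdef, Nat.card_congr (Subgroup.equivSMul (MulAut.conj g) K₀).toEquiv.symm]
    exact mul_unique hK₀.1 hK₀.2 hH.1 hH.2 (by rw [K₀.card_mul_index, H.card_mul_index])
  have hTK : T₀ ≤ K := le_sup_left.trans hg
  have hPK : P ≤ K := le_sup_right.trans hg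
  have hKd : Nat.card K ∣ Nat.card S := card_subgroup_dvd_card K
  have hPp : IsPGroup p (P.subgroupOf K) := IsPGroup.of_card (n := 1) (by rw [card_sub_of_le hPK, hP, pow_one])
  have hnd : ¬ p ∣ (P.subgroupOf K).index := by
    intro h
    apply hpp
    refine dvd_trans ?_ hKd
    rw [← (P.subgroupOf K).card_mul_index, card_sub_of_le hPK, hP]
    exact mul_dvd_mul_left p h
  let Q : Sylow p K := hPp.toSylow hnd
  have hQ : (Q : Subgroup K) = P.subgroupOf K := rfl
  have h1 : Nat.card (Sylow p K) = (normalizer ((Q : Subgroup K) : Set K)).index := Q.card_eq_index_normalizer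
  have h3 : Nat.card (Sylow p K) ≡ 1 [MOD p] := card_sylow_modEq_one p K
  rw [h1, hQ] at h3
  set M : Subgroup K := normalizer ((P.subgroupOf K : Subgroup K) : Set K) with hM
  have hMi := M.card_mul_index
  -- `|M|`
  have hM1 : p * 2 ^ b ∣ Nat.card M := by
    refine Nat.Coprime.mul_dvd_of_dvd_of_dvd
      (Nat.Coprime.pow_right _ ((Nat.coprime_primes hp Nat.prime_two).2 hp2)) ?_ ?_
    · rw [← hP, ← card_sub_of_le hPK]
      exact card_dvd_of_le le_normalizer
    · rw [← hcT, ← card_sub_of_le hTK]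
      refine card_dvd_of_le ?_
      intro x hx
      rw [hM]
      apply mem_normalizer_fintype
      intro y hy
      rw [SetLike.mem_coe, mem_subgroupOf] at hy ⊢
      exact (mem_normalizer_iff.1 (hT₀N (mem_subgroupOf.1 hx)) (y : S)).1 hy
  have hM2 : Nat.card M ∣ p * 2 ^ b * n := by
    rw [← hN, ← card_map_of_injective (subtype_injective K) (K := M)]
    refine card_dvd_of_le ?_
    rintro _ ⟨x, hx, rfl⟩
    apply mem_normalizer_fintype
    intro y hy
    have h4 := (mem_normalizer_iff.1 hx ⟨y, hPK hy⟩).1 (mem_subgroupOf.2 hy)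
    exact mem_subgroupOf.1 h4
  have hM3 : Nat.card M ∣ p * 2 ^ b := by
    refine Nat.Coprime.dvd_of_dvd_mul_right ?_ hM2
    rw [Nat.coprime_iff_gcd_eq_one]
    by_contra hne
    obtain ⟨q, hq, hqd⟩ := Nat.exists_prime_and_dvd hne
    have h5 : q ∣ Nat.card K := (hqd.trans (Nat.gcd_dvd_left _ _)).trans (card_subgroup_dvd_card M)
    rw [hcK] at h5
    exact hn q hq (hqd.trans (Nat.gcd_dvd_right _ _)) (hH.1 q hq h5)
  have hM4 : Nat.card M = p * 2 ^ b := Nat.dvd_antisymm hM3 hM1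
  refine ⟨M.index, by rw [← hcK, ← hMi, hM4], ?_⟩
  have h6 : M.index % p = 1 % p := h3
  rwa [Nat.mod_eq_of_lt hp.one_lt] at h6

/-- the order of a Hall `π`-subgroup -/
theorem card_pi [Finite S] {π : Set ℕ} {B E T : ℕ} (hS : Nat.card S = B * E * T) (hB : ∀ q : ℕ, q.Prime → q ∣ B → q ∈ π)
    (hT : ∀ q : ℕ, q.Prime → q ∣ T → q ∉ π) {H : Subgroup S} (hH : IsPiHall π H) :
    ∃ e, e ∣ E ∧ Nat.card H = B * e := by
  have h1 := H.card_mul_index
  rw [hS] at h1
  have h2 : B ∣ Nat.card H := by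
    refine Nat.Coprime.dvd_of_dvd_mul_right (n := H.index) ?_ ?_
    · rw [Nat.coprime_iff_gcd_eq_one]
      by_contra hne
      obtain ⟨q, hq, hqd⟩ := Nat.exists_prime_and_dvd hne
      exact hH.2 q hq (hB q hq (hqd.trans (Nat.gcd_dvd_left _ _))) (hqd.trans (Nat.gcd_dvd_right _ _))
    · rw [h1, mul_assoc]
      exact dvd_mul_right _ _
  obtain ⟨e, he⟩ := h2
  have hB0 : 0 < B := by
    rcases Nat.eq_zero_or_pos B with h | h
    · have := Nat.card_pos (α := S)
      rw [hS, h, zero_mul, zero_mul] at this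
      exact absurd this (lt_irrefl _)
    · exact h
  refine ⟨e, ?_, he⟩
  have h3 : e * H.index = E * T := by
    apply Nat.eq_of_mul_eq_mul_left hB0
    rw [← mul_assoc, ← he, h1, mul_assoc]
  refine Nat.Coprime.dvd_of_dvd_mul_right (n := T) ?_ ⟨_, h3.symm⟩
  rw [Nat.coprime_iff_gcd_eq_one]
  by_contra hne
  obtain ⟨q, hq, hqd⟩ := Nat.exists_prime_and_dvd hne
  exact hT q hq (hqd.trans (Nat.gcd_dvd_right _ _))
    (hH.1 q hq (by rw [he]; exact (hqd.trans (Nat.gcd_dvd_left _ _)).mul_left B))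

/-- `D_π` and a nonsolvable Hall `π`-subgroup : the Sylow count -/
theorem count_false [Finite S] {π : Set ℕ} {p b n B E T : ℕ} (hp : p.Prime) (hpπ : p ∈ π) (h2 : 2 ∈ π) (hp2 : p ≠ 2)
    (hpp : ¬ p * p ∣ Nat.card S) {P : Subgroup S} (hP : Nat.card P = p)
    (hN : Nat.card (normalizer (P : Set S)) = p * 2 ^ b * n) (hn : ∀ q : ℕ, q.Prime → q ∣ n → q ∉ π)
    (hD : Dom π S) (hS : Nat.card S = B * E * T) (hB : ∀ q : ℕ, q.Prime → q ∣ B → q ∈ π)
    (hT : ∀ q : ℕ, q.Prime → q ∣ T → q ∉ π) {H : Subgroup S} (hH : IsPiHall π H)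
    (hchk : ((List.range (E + 1)).all fun e => !Nat.beq (E % e) 0 || !Nat.beq (B * e / (p * 2 ^ b) % p) 1) = true) :
    False := by
  obtain ⟨f, hf, hf1⟩ := count_pi hp hpπ h2 hp2 hpp hP hN hn hD hH
  obtain ⟨e, he, he1⟩ := card_pi hS hB hT hH
  have hE0 : 0 < E := by
    rcases Nat.eq_zero_or_pos E with h | h
    · have := Nat.card_pos (α := S)
      rw [hS, h, mul_zero, zero_mul] at this
      exact absurd this (lt_irrefl _)
    · exact h
  have h3 := List.all_eq_true.1 hchk e (List.mem_range.2 (Nat.lt_succ_of_le (Nat.le_of_dvd hE0 he)))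
  have h4 : B * e / (p * 2 ^ b) = f := by
    rw [← he1, hf]
    exact Nat.mul_div_cancel_left f (Nat.mul_pos hp.pos (by positivity))
  rw [h4, hf1, Nat.mod_eq_zero_of_dvd he] at h3
  simp at h3

/-- the case of a Sylow count -/
theorem sol_of_count [Finite S] {π : Set ℕ} {N p b n B E T : ℕ} (hc : Nat.card S = N)
    (hN1 : ∀ m, 1 ≤ m → szc m ∣ N → m = 1) (h13 : ¬ 13 * 13 ∣ N) (h2 : 2 ∈ π) (h3 : 3 ∉ π) (hD : Dom π S)
    (hp : p.Prime) (hpd : p ∣ 29120) (hp2 : p ≠ 2) (hpp : ¬ p * p ∣ N) {P : Subgroup S} (hP : Nat.card P = p)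
    (hN : Nat.card (normalizer (P : Set S)) = p * 2 ^ b * n) (hn : ∀ q : ℕ, q.Prime → q ∣ n → q = 3)
    (hS : N = B * E * T) (hB : ∀ q : ℕ, q.Prime → q ∣ B → q ∣ 29120) (hT : ∀ q : ℕ, q.Prime → q ∣ T → q = 3)
    (hchk : ((List.range (E + 1)).all fun e => !Nat.beq (E % e) 0 || !Nat.beq (B * e / (p * 2 ^ b) % p) 1) = true)
    (H : Subgroup S) (hH : IsPiHall π H) : Group.IsSolvable H := by
  rcases H171.RV.Sol.sol_or hc hN1 h13 h3 hH with h | ⟨h, -⟩
  · exact h
  · exfalso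
    have hq3 : ∀ q : ℕ, q = 3 → q ∉ π := by rintro q rfl; exact h3
    exact count_false hp (hH.1 p hp (hpd.trans h)) h2 hp2 (by rwa [hc]) hP hN (fun q hq hd => hq3 q (hn q hq hd)) hD
      (hc.trans hS) (fun q hq hd => hH.1 q hq ((hB q hq hd).trans h)) (fun q hq hd => hq3 q (hT q hq hd)) hH hchk

/-- the case of a unique central involution, `t = 7` -/
theorem sol_of_zt [Finite S] {π : Set ℕ} {M N a b m : ℕ} (hc : Nat.card S = N)
    (hN1 : ∀ m, 1 ≤ m → szc m ∣ N → m = 1) (h13 : ¬ 13 * 13 ∣ N) (hZ : H171.RV.TwoP.ZT S M)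
    (hS : N = 2 ^ a * 7 ^ b * m) (h2 : ¬ 2 ∣ m) (hm : ¬ 7 ∣ m) (hM : ¬ 7 ^ b ∣ M)
    (hchk : H464.RM.zchk 7 a b = true) (h3 : 3 ∉ π) (H : Subgroup S) (hH : IsPiHall π H) : Group.IsSolvable H :=
  H171.RV.Sol.sol_of_no27 hc hN1 h13
    (H464.RM.no_ztp' hZ (by norm_num) (by norm_num) (hc.trans hS) h2 hm hM hchk) h3 H hH

end Cfsg.Agent.H171.RM
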