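import Cfsg.Agent.H464.RM.AsmBase
import Cfsg.Agent.H171.RM.SolBase
import Cfsg.Agent.H768.RV.Fi24
import Cfsg.Agent.H768.RM.FiTwentyFour
import Cfsg.Agent.H768.RM.FiTwentyFourA
import Cfsg.Agent.H768.RV.FacH
import Cfsg.Agent.H841.PiBS.Rows
import Cfsg.Agent.NotCT.Orders

/-!
# S3849, P11: the row of `fi24` (helper171)
-/

set_option autoImplicit false
set_option maxRecDepth 100000

namespace Cfsg.Agent.H171.RM

open Cfsg Cfsg.Agent.H571.RV Cfsg.Agent.H571.RM Cfsg.Agent.H571.DExt Cfsg.Agent.H171.RV.SzHall Cfsg.Agent.H464.RM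

universe u

variable {S : Type u} [Group S] [Finite S] {π : Set ℕ}

theorem her_fi24 [hs : IsSimpleGroup S] (h : Spor.IsoFi24' S) : Her π S := by
  have hc := NotCT.Orders.fi24 h
  refine her_of_data hc [2, 3, 5, 7, 11, 13, 17, 23, 29] (by norm_num) 21 (by norm_num)
    [(3, 5), (3, 7), (3, 11), (3, 13), (3, 17), (3, 23)] (by decide +kernel)
    (fun h2 h3 hD => H841.PiBS.Rows.good_fi24 h2 h3 h (dc_of_dom hD))
    (fun _ h3 _ => H171.RV.Sol.sol_of_no27 hc (szc_le (B := 5) (by norm_num) (by decide +kernel)) (by norm_num)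
      (fun K => H768.RV.no_hall_fi24 h (Or.inl rfl) K) h3) ?_ ?_
  · exact fun p hp h5 hpd => H768.RV.FiTF.no2_fi24 h hp h5 hpd
  · intro p hp
    simp only [List.mem_cons, List.not_mem_nil, or_false] at hp
    rcases hp with rfl | rfl | rfl | rfl | rfl | rfl
    · exact H768.RM.no_fi24_3_5 h
    · exact H768.RM.no_fi24_3_7 h
    · exact H768.RM.no_fi24_3_11 h
    · exact H768.RM.no_fi24_3_13 h
    · exact H768.RM.no_fi24_3_17 h
    · exact H768.RM.no_fi24_3_23 h

end Cfsg.Agent.H171.RM
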