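import Cfsg.Agent.H171.RM.LyEb
import Cfsg.Agent.TypeM.FactsLy
import Mathlib.GroupTheory.Perm.Centralizer
import Mathlib.GroupTheory.FixedPointFree

/-!
# S3849, P11: `Ly`: `{2, 5}` (helper171)

A Sylow 2-subgroup contains an elementary group of order 8; no element of order 5 centralises a four-group.
-/

set_option autoImplicit false
set_option maxRecDepth 100000

namespace Cfsg.Agent.H171.RM

open Subgroup Equiv Cfsg Cfsg.Agent.SporRec.TwoAn Cfsg.Agent.TypeM.Two Cfsg.Agent.H464.RM Cfsg.Agent.H571.DExt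
open Cfsg.Agent.H171.Odd (Inv1)

universe u

namespace Lyons

variable {G : Type u} [Group G] [Finite G]

/-- five does not divide the order of the centralizer of a product of four transpositions in `S₁₁` -/
theorem not_dvd_cent {τ : Perm (Fin 11)} (h2 : τ * τ = 1) (h1 : τ ≠ 1) (h8 : 8 ∣ τ.support.card) :
    ¬ 5 ∣ Nat.card (centralizer ({τ} : Set (Perm (Fin 11)))) := by
  have hc : τ.support.card = 8 := by
    have h3 : τ.support.card ≤ 11 := (Finset.card_le_univ _).trans (by simp)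
    have h4 : τ.support.card ≠ 0 := by
      rw [Ne, Finset.card_eq_zero, Perm.support_eq_empty_iff]
      exact h1
    omega
  have ho : orderOf τ = 2 := orderOf_eq_prime (by rw [pow_two, h2]) h1
  obtain ⟨n, hn⟩ := Perm.cycleType_prime_order (σ := τ) (by rw [ho]; exact Nat.prime_two)
  rw [ho] at hn
  have h5 := Perm.sum_cycleType τ
  rw [hn, hc, Multiset.sum_replicate] at h5
  have h6 : n = 3 := by
    simp only [smul_eq_mul] at h5
    omega
  subst h6
  rw [Perm.nat_card_centralizer, hn]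
  decide

/-- **no element of order 5 centralises a four-group** -/
theorem no_four (L : MT 11 G) {y b : G} (hy : orderOf y = 5) (hty : y * L.t = L.t * y) (hb : b * b = 1) (hb1 : b ≠ 1)
    (hbt : b ≠ L.t) (hbt' : b * L.t = L.t * b) (hby : b * y = y * b) : False := by
  set b' : ↥(centralizer ({L.t} : Set G)) := ⟨b, mem_centralizer_singleton_iff.2 hbt'⟩ with hb'
  set y' : ↥(centralizer ({L.t} : Set G)) := ⟨y, mem_centralizer_singleton_iff.2 hty⟩ with hy'
  have h1 : b' * b' = 1 := Subtype.ext hb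
  obtain ⟨h2, h3⟩ := L.K.sq_eq_one_iff.1 h1
  have h4 : L.K.π b' ≠ 1 := by
    intro h5
    rcases (L.K.ker b').1 h5 with h6 | h6
    · exact hb1 (congrArg Subtype.val h6)
    · apply hbt
      rw [← L.hz, ← h6]
  apply not_dvd_cent h2 h4 h3
  have h5 : L.K.π y' ∈ centralizer ({L.K.π b'} : Set (Perm (Fin 11))) := by
    rw [mem_centralizer_singleton_iff, ← map_mul, ← map_mul]
    congr 1
    exact Subtype.ext hby.symm
  have h6 : orderOf (L.K.π y') = 5 := by
    have hf : Fact (Nat.Prime 5) := ⟨Nat.prime_five⟩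
    have h7 : y' ^ 5 = 1 := Subtype.ext (by rw [← hy]; exact pow_orderOf_eq_one y)
    have h8 : y' ≠ 1 := by
      intro h9
      have h10 : y = 1 := congrArg Subtype.val h9
      rw [h10, orderOf_one] at hy
      norm_num at hy
    refine orderOf_eq_prime (by rw [← map_pow, h7, map_one]) ?_
    intro h9
    rcases (L.K.ker y').1 h9 with h10 | h10
    · exact h8 h10
    · apply L.K.z_ne
      rw [h10, pow_succ, show (4 : ℕ) = 2 * 2 by norm_num, pow_mul, L.K.z_pow_two, one_pow, one_mul] at h7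
      exact h7
  rw [← h6]
  exact orderOf_dvd_natCard _ h5

/-! ### the elementary group of order 8 -/

def x1 : Perm (Fin 11) := swap 0 1 * swap 2 3 * swap 4 5 * swap 6 7
def x2 : Perm (Fin 11) := swap 0 2 * swap 1 3 * swap 4 6 * swap 5 7

theorem x_facts : x1 * x1 = 1 ∧ x2 * x2 = 1 ∧ (x1 * x2) * (x1 * x2) = 1 ∧ 8 ∣ x1.support.card ∧ 8 ∣ x2.support.card ∧
    8 ∣ (x1 * x2).support.card ∧ x1 ≠ 1 ∧ x2 ≠ 1 ∧ x1 ≠ x2 ∧ Perm.sign x1 = 1 ∧ Perm.sign x2 = 1 := by
  decide +kernel

/-- three commuting involutions -/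
structure E8 (t a b : G) : Prop where
  tt : t * t = 1
  aa : a * a = 1
  bb : b * b = 1
  ta : t * a = a * t
  tb : t * b = b * t
  ab : a * b = b * a
  t1 : t ≠ 1
  a1 : a ≠ 1
  b1 : b ≠ 1
  at' : a ≠ t
  bt : b ≠ t
  ba : b ≠ a
  bta : b ≠ t * a

theorem exists_e8 (L : MT 11 G) : ∃ a b : G, E8 L.t a b := by
  obtain ⟨f1, f2, f3, f4, f5, f6, f7, f8, f9, f10, f11⟩ := x_facts
  obtain ⟨a, ha⟩ := L.K.exists_lift (σ := x1) (Perm.mem_alternatingGroup.2 f10)
  obtain ⟨b, hb⟩ := L.K.exists_lift (σ := x2) (Perm.mem_alternatingGroup.2 f11)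
  have haa : a * a = 1 := L.K.sq_eq_one_iff.2 (by rw [ha]; exact ⟨f1, f4⟩)
  have hbb : b * b = 1 := L.K.sq_eq_one_iff.2 (by rw [hb]; exact ⟨f2, f5⟩)
  have hab : (a * b) * (a * b) = 1 := L.K.sq_eq_one_iff.2 (by rw [map_mul, ha, hb]; exact ⟨f3, f6⟩)
  have hc : a * b = b * a := by
    have h1 : a⁻¹ = a := inv_eq_of_mul_eq_one_left haa
    have h2 : b⁻¹ = b := inv_eq_of_mul_eq_one_left hbb
    calc a * b = (a * b)⁻¹ := (inv_eq_of_mul_eq_one_left hab).symm
      _ = b * a := by rw [mul_inv_rev, h1, h2]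
  have ht : L.K.π L.K.z = 1 := L.K.π_z
  have key : ∀ t' : G, t' = (L.K.z : G) → E8 t' a b := by
    rintro _ rfl
    exact
    { tt := congrArg Subtype.val L.K.z_mul_z
      aa := congrArg Subtype.val haa
      bb := congrArg Subtype.val hbb
      ta := (congrArg Subtype.val (L.K.z_comm a)).symm
      tb := (congrArg Subtype.val (L.K.z_comm b)).symm
      ab := congrArg Subtype.val hc
      t1 := fun h => L.K.z_ne (Subtype.ext h)
      a1 := fun h => f7 (by rw [← ha, show a = 1 from Subtype.ext h, map_one])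
      b1 := fun h => f8 (by rw [← hb, show b = 1 from Subtype.ext h, map_one])
      at' := fun h => f7 (by rw [← ha, show a = L.K.z from Subtype.ext h, ht])
      bt := fun h => f8 (by rw [← hb, show b = L.K.z from Subtype.ext h, ht])
      ba := fun h => f9 (by rw [← ha, ← hb, show b = a from Subtype.ext h])
      bta := fun h => f9 (by rw [← ha, ← hb, show b = L.K.z * a from Subtype.ext h, map_mul, ht, one_mul]) }
  exact ⟨a, b, key _ L.hz.symm⟩

theorem E8.conj {t a b : G} (h : E8 t a b) (g : G) : E8 (g * t * g⁻¹) (g * a * g⁻¹) (g * b * g⁻¹) := by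
  have hm : ∀ x y : G, (g * x * g⁻¹) * (g * y * g⁻¹) = g * (x * y) * g⁻¹ := fun x y => by group
  have hi : ∀ x y : G, g * x * g⁻¹ = g * y * g⁻¹ → x = y := fun x y h => mul_left_cancel (mul_right_cancel h)
  have h1 : g * 1 * g⁻¹ = 1 := by group
  exact
    { tt := by rw [hm, h.tt, h1]
      aa := by rw [hm, h.aa, h1]
      bb := by rw [hm, h.bb, h1]
      ta := by rw [hm, hm, h.ta]
      tb := by rw [hm, hm, h.tb]
      ab := by rw [hm, hm, h.ab]
      t1 := fun e => h.t1 (hi _ _ (e.trans h1.symm))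
      a1 := fun e => h.a1 (hi _ _ (e.trans h1.symm))
      b1 := fun e => h.b1 (hi _ _ (e.trans h1.symm))
      at' := fun e => h.at' (hi _ _ e)
      bt := fun e => h.bt (hi _ _ e)
      ba := fun e => h.ba (hi _ _ e)
      bta := fun e => h.bta (hi _ _ (by rw [← hm]; exact e)) }

theorem norm_of_comm {x : G} {s : Set G} (h : ∀ g ∈ s, x * g = g * x) : x ∈ normalizer (closure s : Set G) := by
  have h1 : (closure s : Subgroup G) ≤ centralizer {x} := by
    rw [closure_le]
    intro g hg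
    exact mem_centralizer_singleton_iff.2 (h g hg).symm
  apply mem_normalizer_fintype
  intro g hg
  have h2 : g * x = x * g := mem_centralizer_singleton_iff.1 (h1 hg)
  rw [← h2, mul_inv_cancel_right]
  exact hg

theorem E8.exists_in {t a b : G} (h : E8 t a b) {T : Subgroup G} (hT : IsPGroup 2 T) (hTi : ¬ 2 ∣ T.index) :
    ∃ t' a' b' : G, E8 t' a' b' ∧ t' ∈ T ∧ a' ∈ T ∧ b' ∈ T := by
  have hf : Fact (Nat.Prime 2) := ⟨Nat.prime_two⟩
  have h1 : IsPGroup 2 (zpowers t) := by
    rintro ⟨y, k, rfl⟩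
    refine ⟨1, Subtype.ext ?_⟩
    show (t ^ k) ^ 2 ^ 1 = 1
    rw [pow_one, ← zpow_natCast, ← zpow_mul, mul_comm, zpow_mul, zpow_natCast, pow_two, h.tt, one_zpow]
  have h2 := pgroup_sup h1 (x := a) (by rw [pow_two, h.aa]) (by
    rw [zpowers_eq_closure]
    exact norm_of_comm (by rintro g rfl; exact h.ta.symm))
  have h3 := pgroup_sup h2 (x := b) (by rw [pow_two, h.bb]) (by
    rw [zpowers_eq_closure, zpowers_eq_closure, ← Subgroup.closure_union]
    exact norm_of_comm (by rintro g (rfl | rfl); exacts [h.tb.symm, h.ab.symm]))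
  obtain ⟨R, hR⟩ := h3.exists_le_sylow
  obtain ⟨g, hg⟩ := MulAction.exists_smul_eq G R (hT.toSylow hTi)
  have h6 : ∀ x ∈ (zpowers t ⊔ zpowers a ⊔ zpowers b : Subgroup G), g * x * g⁻¹ ∈ T := by
    intro x hx
    have h7 : g * x * g⁻¹ ∈ ((g • R : Sylow 2 G) : Subgroup G) := ⟨x, hR hx, rfl⟩
    rw [hg] at h7
    exact h7
  refine ⟨_, _, _, h.conj g, h6 _ ?_, h6 _ ?_, h6 _ ?_⟩
  · exact (le_sup_left.trans le_sup_left : zpowers t ≤ _) (mem_zpowers t)
  · exact (le_sup_right.trans le_sup_left : zpowers a ≤ _) (mem_zpowers a)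
  · exact (le_sup_right : zpowers b ≤ _) (mem_zpowers b)

/-! ### a four-group acting on a group -/

theorem inv_of_fpf {Y : Subgroup G} {a : G} (haa : a * a = 1) (ha : a ∈ normalizer (Y : Set G))
    (h : Y ⊓ centralizer {a} = ⊥) : ∀ y ∈ Y, a * y * a⁻¹ = y⁻¹ := by
  let φ : Y →* Y :=
    { toFun := fun y => ⟨a * y * a⁻¹, (mem_normalizer_iff.1 ha y).1 y.2⟩
      map_one' := Subtype.ext (by show a * 1 * a⁻¹ = 1; group)
      map_mul' := fun x y => Subtype.ext (by show a * (x * y) * a⁻¹ = (a * x * a⁻¹) * (a * y * a⁻¹); group) }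
  have h1 : MonoidHom.FixedPointFree φ := by
    rintro ⟨y, hy⟩ h2
    have h3 : a * y * a⁻¹ = y := congrArg Subtype.val h2
    have h4 : y ∈ Y ⊓ centralizer {a} := ⟨hy, mem_centralizer_singleton_iff.2 (by
      calc y * a = (a * y * a⁻¹) * a := by rw [h3]
        _ = a * y := by group)⟩
    rw [h, mem_bot] at h4
    exact Subtype.ext h4
  have h2 : Function.Involutive φ := by
    rintro ⟨y, hy⟩
    apply Subtype.ext
    show a * (a * y * a⁻¹) * a⁻¹ = y
    calc a * (a * y * a⁻¹) * a⁻¹ = (a * a) * y * (a * a)⁻¹ := by group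
      _ = y := by rw [haa]; group
  intro y hy
  exact congrArg Subtype.val (congrFun (h1.coe_eq_inv_of_involutive h2) ⟨y, hy⟩)

theorem four_act {Y : Subgroup G} (hY : Y ≠ ⊥) {a b : G} (haa : a * a = 1) (hbb : b * b = 1)
    (ha : a ∈ normalizer (Y : Set G)) (hb : b ∈ normalizer (Y : Set G)) :
    (Y ⊓ centralizer {a} : Subgroup G) ≠ ⊥ ∨ (Y ⊓ centralizer {b} : Subgroup G) ≠ ⊥ ∨
      (Y ⊓ centralizer {a * b} : Subgroup G) ≠ ⊥ := by
  by_contra hcon
  push Not at hcon
  obtain ⟨h1, h2, h3⟩ := hcon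
  have i1 := inv_of_fpf haa ha h1
  have i2 := inv_of_fpf hbb hb h2
  apply hY
  rw [eq_bot_iff, ← h3]
  intro y hy
  refine ⟨hy, mem_centralizer_singleton_iff.2 ?_⟩
  have h4 : a * b * y * (a * b)⁻¹ = y := by
    calc a * b * y * (a * b)⁻¹ = a * (b * y * b⁻¹) * a⁻¹ := by group
      _ = a * y⁻¹ * a⁻¹ := by rw [i2 y hy]
      _ = (a * y * a⁻¹)⁻¹ := by group
      _ = y := by rw [i1 y hy, inv_inv]
  calc y * (a * b) = (a * b * y * (a * b)⁻¹) * (a * b) := by rw [h4]
    _ = a * b * y := by group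

theorem inv_two_five (L : MT 11 G) : Inv1 2 5 G := by
  intro T hT hTi Y hY hTY
  by_contra hY1
  have hf5 : Fact (Nat.Prime 5) := ⟨Nat.prime_five⟩
  obtain ⟨a₀, b₀, h₀⟩ := exists_e8 L
  obtain ⟨t, a, b, h, ht, ha, hb⟩ := h₀.exists_in hT hTi
  have hn : ∀ x ∈ T, ∀ c : G, x * c = c * x → x ∈ normalizer ((Y ⊓ centralizer {c} : Subgroup G) : Set G) := by
    intro x hx c hxc
    apply mem_normalizer_fintype
    rintro y ⟨hy, hyc⟩
    refine ⟨(mem_normalizer_iff.1 (hTY hx) y).1 hy, ?_⟩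
    show x * y * x⁻¹ ∈ centralizer {c}
    rw [mem_centralizer_singleton_iff]
    have h1 : Commute y c := mem_centralizer_singleton_iff.1 hyc
    have h2 : Commute x c := hxc
    exact ((h2.mul_left h1).mul_left h2.inv_left).eq
  -- the last step
  have last : ∀ c f : G, c * c = 1 → c ≠ 1 → f * f = 1 → f ≠ 1 → f ≠ c → f * c = c * f →
      (Y ⊓ centralizer {c} ⊓ centralizer {f} : Subgroup G) = ⊥ := by
    intro c f hcc hc1 hff hf1 hfc hfc'
    by_contra hne
    have hp : IsPGroup 5 (Y ⊓ centralizer {c} ⊓ centralizer {f} : Subgroup G) :=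
      hY.to_le (inf_le_left.trans inf_le_left)
    obtain ⟨n, hn⟩ := hp.exists_card_eq
    have hn0 : n ≠ 0 := by
      rintro rfl
      rw [pow_zero, card_eq_one] at hn
      exact hne hn
    obtain ⟨⟨y, hy⟩, hyo⟩ := exists_prime_orderOf_dvd_card' (G := (Y ⊓ centralizer {c} ⊓ centralizer {f} : Subgroup G)) 5
      (by rw [hn]; exact dvd_pow_self 5 hn0)
    rw [← orderOf_coe] at hyo
    change orderOf y = 5 at hyo
    obtain ⟨L', rfl⟩ := L.exists_rebase hcc hc1
    exact no_four L' hyo (mem_centralizer_singleton_iff.1 hy.1.2) hff hf1 hfc hfc'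
      (mem_centralizer_singleton_iff.1 hy.2).symm
  -- the second step
  have second : ∀ c w : G, c * c = 1 → c ≠ 1 → w ∈ T → w * w = 1 → w ≠ 1 → w ≠ c → w * c = c * w → b * c = c * b →
      b ≠ c → w * b ≠ 1 → w * b ≠ c → w * b = b * w → (Y ⊓ centralizer {c} : Subgroup G) = ⊥ := by
    intro c w hcc hc1 hwT hww hw1 hwc hwc' hbc hbc' hwb1 hwbc hwb
    by_contra hne
    have hwbwb : (w * b) * (w * b) = 1 := by
      calc (w * b) * (w * b) = w * (b * w) * b := by group
        _ = w * (w * b) * b := by rw [hwb]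
        _ = (w * w) * (b * b) := by group
        _ = 1 := by rw [hww, h.bb, one_mul]
    have hwbc' : (w * b) * c = c * (w * b) := by rw [mul_assoc, hbc, ← mul_assoc, hwc', mul_assoc]
    rcases four_act hne hww h.bb (hn w hwT c hwc') (hn b hb c hbc) with h1 | h1 | h1
    · exact h1 (last c w hcc hc1 hww hw1 hwc hwc')
    · exact h1 (last c b hcc hc1 h.bb h.b1 hbc' hbc)
    · exact h1 (last c (w * b) hcc hc1 hwbwb hwb1 hwbc hwbc')
  have ht' : t⁻¹ = t := inv_eq_of_mul_eq_one_left h.tt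
  have ha' : a⁻¹ = a := inv_eq_of_mul_eq_one_left h.aa
  have htata : (t * a) * (t * a) = 1 := by
    calc (t * a) * (t * a) = t * (a * t) * a := by group
      _ = t * (t * a) * a := by rw [h.ta]
      _ = (t * t) * (a * a) := by group
      _ = 1 := by rw [h.tt, h.aa, one_mul]
  rcases four_act hY1 h.tt h.aa (hTY ht) (hTY ha) with h1 | h1 | h1
  · -- `c = t`, `w = a`
    refine h1 (second t a h.tt h.t1 ha h.aa h.a1 h.at' h.ta.symm h.tb.symm h.bt ?_ ?_ h.ab)
    · intro e
      exact h.ba (by rw [← mul_eq_one_iff_inv_eq.1 e, ha'])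
    · intro e
      apply h.bta
      calc b = b * (a * a) := by rw [h.aa, mul_one]
        _ = (b * a) * a := by group
        _ = (a * b) * a := by rw [h.ab]
        _ = t * a := by rw [e]
  · -- `c = a`, `w = t`
    refine h1 (second a t h.aa h.a1 ht h.tt h.t1 (Ne.symm h.at') h.ta h.ab.symm h.ba ?_ ?_ h.tb)
    · intro e
      exact h.bt (by rw [← mul_eq_one_iff_inv_eq.1 e, ht'])
    · intro e
      apply h.bta
      rw [← e, ← mul_assoc, h.tt, one_mul]
  · -- `c = t * a`, `w = t`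
    refine h1 (second (t * a) t htata ?_ ht h.tt h.t1 ?_ ?_ ?_ h.bta ?_ ?_ h.tb)
    · intro e
      exact h.at' (by rw [← mul_eq_one_iff_inv_eq.1 e, ht'])
    · intro e
      exact h.a1 (left_eq_mul.1 e)
    · rw [mul_assoc, ← h.ta]
    · rw [← mul_assoc, ← h.tb, mul_assoc, ← h.ab, mul_assoc]
    · intro e
      exact h.bt (by rw [← mul_eq_one_iff_inv_eq.1 e, ht'])
    · intro e
      exact h.ba (mul_left_cancel e)

theorem p2_5 : ¬ Dom ({2, 5} : Set ℕ) Spor.Ly := by
  have := hfin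
  obtain ⟨L⟩ := Cfsg.Agent.TypeM.FactsLy.exists_mt_ly
  refine nd_of (no_gl (a := 8) (b := 6) (m := 12941294751) Nat.prime_two Nat.prime_five (by norm_num)
    (by rw [hc]; norm_num) (by norm_num) (by norm_num) (inv_two_five L) (fun k => if k % 4 = 0 then 1 else 0)
    (fun k h1 h2 => ?_) (by decide))
  interval_cases k <;> decide +kernel

end Lyons

theorem no2_ly_5 {S : Type u} [Group S] [Finite S] (h : Spor.IsoLy S) : ¬ Dom ({2, 5} : Set ℕ) S := by
  obtain ⟨e⟩ := h
  exact fun hD => Lyons.p2_5 (Cfsg.Agent.H555.RV.dom_equiv e hD)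

end Cfsg.Agent.H171.RM
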