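import Cfsg.Agent.H464.RM.AsmBase
import Cfsg.Agent.H171.RM.SolBase
import Cfsg.Agent.H171.RM.CentLy
import Cfsg.Agent.H171.RM.LyFives
import Cfsg.Agent.H171.RM.LyTwoFive
import Cfsg.Agent.H171.RM.GL
import Cfsg.Agent.H861.PiS.LyRow
import Cfsg.Agent.NotCT.Orders

/-!
# S3849, P11: the row of `Ly` (helper171)
-/

set_option autoImplicit false
set_option maxRecDepth 100000

namespace Cfsg.Agent.H171.RM

open Cfsg Cfsg.Agent.H571.RV Cfsg.Agent.H571.RM Cfsg.Agent.H571.DExt Cfsg.Agent.H171.RV.SzHall Cfsg.Agent.H464.RM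

universe u

variable {S : Type u} [Group S] [Finite S] {π : Set ℕ}

theorem her_ly [hs : IsSimpleGroup S] (h : Spor.IsoLy S) : Her π S := by
  have hc := NotCT.Orders.ly h
  refine her_of_data hc [2, 3, 5, 7, 11, 31, 37, 67] (by norm_num) 8 (by norm_num)
    [(3, 5), (3, 7), (3, 11), (5, 7), (5, 11), (5, 31)] (by decide +kernel)
    (fun h2 h3 hD => H861.PiS.LyRow.row_Ly h h2 h3 (dc_of_dom hD))
    (fun _ h3 _ => H171.RV.Sol.sol_of hc (szc_le (B := 3) (by norm_num) (by decide +kernel)) (by norm_num) (by norm_num) h3) ?_ ?_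
  · intro p hp h5 hpd
    rw [hc] at hpd
    have hm := mem_primes hp hpd [2, 3, 5, 7, 11, 31, 37, 67] (by norm_num) 8 (by norm_num)
    simp only [List.mem_cons, List.not_mem_nil, or_false] at hm
    rcases hm with rfl | rfl | rfl | rfl | rfl | rfl | rfl | rfl
    · omega
    · omega
    · exact no2_ly_5 h
    · exact no2_ly_7 h
    · exact no2_ly_11 h
    · exact no2_ly_31 h
    · exact no2_ly_37 h
    · exact no2_ly_67 h
  · intro p hp
    simp only [List.mem_cons, List.not_mem_nil, or_false] at hp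
    rcases hp with rfl | rfl | rfl | rfl | rfl | rfl
    · exact no_ly_3_5 h
    · exact no_ly_3_7 h
    · exact no_ly_3_11 h
    · exact no_ly_5_7 h
    · exact no_ly_5_11 h
    · exact no_ly_5_31 h

end Cfsg.Agent.H171.RM
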