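import Cfsg.Agent.H171.RM.SolMBase
import Cfsg.Agent.H573.RM.MonTwo

/-!
# S3849, P11: solubility of the Hall `π`-subgroups of the Monster, `3 ∉ π` (helper171)
-/

set_option autoImplicit false
set_option maxRecDepth 100000

namespace Cfsg.Agent.H171.RM

open Subgroup Cfsg Cfsg.Agent.H571.DExt Cfsg.Agent.H171.RV.SzHall

universe u

theorem hall_of_sub {S : Type u} [Group S] [Finite S] {π : Set ℕ} {H : Subgroup S} (hH : IsPiHall π H) {p : ℕ}
    (h2 : 2 ∈ π) (hp : p ∈ π) (h : IsEPiGroup ({2, p} : Set ℕ) H) : ∃ K : Subgroup S, IsPiHall ({2, p} : Set ℕ) K := by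
  obtain ⟨K, hK⟩ := h
  refine ⟨K.map H.subtype, isPiHall_of hK fun q hq hπ => hH.2 q hq ?_⟩
  rcases hπ with rfl | h7
  · exact h2
  · rw [Set.mem_singleton_iff] at h7
    subst h7
    exact hp

/-- **`M`** -/
theorem sol_m {S : Type u} [Group S] [Finite S] {π : Set ℕ} (h : Spor.IsoM S) (h2 : 2 ∈ π) (h3 : 3 ∉ π) :
    ∀ H : Subgroup S, IsPiHall π H → Group.IsSolvable H := by
  intro H hH
  have hc := H573.RM.Mon.card_m h
  have hZ := H573.RM.Mon.zt_m h
  have hd : Nat.card H ∣ 808017424794512875886459904961710757005754368000000000 := by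
    rw [← hc]; exact card_subgroup_dvd_card H
  have hH3 : ¬ 3 ∣ Nat.card H := fun hd => h3 (hH.1 3 Nat.prime_three hd)
  have hN : ∀ m, 1 ≤ m → szc m ∣ 808017424794512875886459904961710757005754368000000000 → m = 1 ∨ m = 2 :=
    szc_le (B := 12) (by norm_num) (by decide +kernel)
  obtain ⟨h27, h231⟩ := hall_all H hH3 fun m hm hd' => hN m hm (hd'.trans hd)
  have n7 : 7 ∉ π := by
    intro hp
    obtain ⟨K, hK⟩ := hall_of_sub hH h2 hp h27
    exact H464.RM.no_ztp' (t := 7) (a := 46) (b := 6)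
      (m := 808017424794512875886459904961710757005754368000000000 / (2 ^ 46 * 7 ^ 6)) hZ (by norm_num) (by norm_num)
      (by rw [hc]; norm_num) (by norm_num) (by norm_num) (by norm_num) (by decide +kernel) K hK
  have n31 : 31 ∉ π := by
    intro hp
    obtain ⟨K, hK⟩ := hall_of_sub hH h2 hp h231
    exact H464.RM.no_ztp' (t := 31) (a := 46) (b := 1)
      (m := 808017424794512875886459904961710757005754368000000000 / (2 ^ 46 * 31 ^ 1)) hZ (by norm_num) (by norm_num)
      (by rw [hc]; norm_num) (by norm_num) (by norm_num) (by norm_num) (by decide +kernel) K hK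
  refine sol_no_szc H hH3 fun m hm hdm => ?_
  rcases hN m hm (hdm.trans hd) with rfl | rfl
  · exact n7 (hH.1 7 (by norm_num) (dvd_trans (by norm_num [szc]) hdm))
  · exact n31 (hH.1 31 (by norm_num) (dvd_trans (by norm_num [szc]) hdm))

end Cfsg.Agent.H171.RM
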