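import Cfsg.Agent.H464.RM.AsmBase
import Cfsg.Agent.H171.RM.SolM
import Cfsg.Agent.H573.RM.MonTwo
import Cfsg.Agent.H573.RM.MonFive
import Cfsg.Agent.H573.RM.MonGL
import Cfsg.Agent.H23.RM.MCent
import Cfsg.Agent.H23.RM.MZtp
import Cfsg.Agent.H461.RM.M
import Cfsg.Agent.H321.RM.M
import Cfsg.Agent.H861.PiS.CoOneRow

/-!
# S3849, P11: the row of `m` (helper171)
-/

set_option autoImplicit false
set_option maxRecDepth 100000

namespace Cfsg.Agent.H171.RM

open Cfsg Cfsg.Agent.H571.RV Cfsg.Agent.H571.RM Cfsg.Agent.H571.DExt Cfsg.Agent.H171.RV.SzHall Cfsg.Agent.H464.RM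

universe u

variable {S : Type u} [Group S] [Finite S] {π : Set ℕ}

theorem her_m [hs : IsSimpleGroup S] (h : Spor.IsoM S) : Her π S := by
  have hc := H573.RM.Mon.card_m h
  refine her_of_data hc [2, 3, 5, 7, 11, 13, 17, 19, 23, 29, 31, 41, 47, 59, 71] (by norm_num) 46 (by norm_num)
    [(3, 5), (3, 7), (3, 11), (3, 13), (3, 17), (3, 19), (3, 23), (3, 41), (5, 7), (5, 11), (5, 13), (5, 19), (5, 31), (5, 71), (7, 13), (7, 19)] (by decide +kernel)
    (fun h2 h3 hD => H861.PiS.CoOneRow.row_M h h2 h3 (dc_of_dom hD))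
    (fun h2 h3 _ => sol_m h h2 h3) ?_ ?_
  · intro p hp h5 hpd
    rw [hc] at hpd
    have hm := mem_primes hp hpd [2, 3, 5, 7, 11, 13, 17, 19, 23, 29, 31, 41, 47, 59, 71] (by norm_num) 46 (by norm_num)
    simp only [List.mem_cons, List.not_mem_nil, or_false] at hm
    rcases hm with rfl | rfl | rfl | rfl | rfl | rfl | rfl | rfl | rfl | rfl | rfl | rfl | rfl | rfl | rfl
    · omega
    · omega
    · exact H573.RM.Mon.no2_m_5 h
    · exact H23.RM.Mon.no2_m_7 h
    · exact H23.RM.Mon.no2_m_11 h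
    · exact H23.RM.Mon.no2_m_13 h
    · exact H23.RM.Mon.no2_m_17 h
    · exact H573.RM.Mon.no2_m h (by simp)
    · exact H23.RM.Mon.no2_m_23 h
    · exact H573.RM.Mon.no2_m h (by simp)
    · exact H573.RM.Mon.no2_m h (by simp)
    · exact H573.RM.Mon.no2_m h (by simp)
    · exact H573.RM.Mon.no2_m h (by simp)
    · exact H573.RM.Mon.no2_m h (by simp)
    · exact H573.RM.Mon.no2_m h (by simp)
  · intro p hp
    simp only [List.mem_cons, List.not_mem_nil, or_false] at hp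
    rcases hp with rfl | rfl | rfl | rfl | rfl | rfl | rfl | rfl | rfl | rfl | rfl | rfl | rfl | rfl | rfl | rfl
    · exact H573.RM.Mon.no_3_5_m h
    · exact H573.RM.Mon.no_3_7_m h
    · exact H461.RM.Mon.no_m_3_11 h
    · exact H573.RM.Mon.no_3_13_m h
    · exact H23.RM.Mon.no_m_3_17 h
    · exact H23.RM.Mon.no_m_3_19 h
    · exact H23.RM.Mon.no_m_3_23 h
    · exact H23.RM.Mon.no_m_3_41 h
    · exact H573.RM.Mon.no_5_7_m h
    · exact H573.RM.Mon.no_5_11_m h
    · exact H573.RM.Mon.no_5_13_m h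
    · exact H23.RM.Mon.no_m_5_19 h
    · exact H23.RM.Mon.no_m_5_31 h
    · exact H23.RM.Mon.no_m_5_71 h
    · exact H321.RM.no_m_7_13 h
    · exact H321.RM.no_m_7_19 h

end Cfsg.Agent.H171.RM
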