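import Cfsg.Agent.H171.RM.LyE
import Cfsg.Agent.H171.RM.CentLy
import Cfsg.Agent.H171.Odd.LyB

/-!
# S3849, P11: `Ly`: `{5, 7}`, `{5, 31}`, `{5, 11}` (helper171)
-/

set_option autoImplicit false

namespace Cfsg.Agent.H171.RM

open Subgroup Cfsg Cfsg.Agent.H571.DExt Cfsg.Agent.H988.CPi Cfsg.Agent.H464.RM Cfsg.Agent.H555.PiBS
open Cfsg.Agent.H171.Odd (Inv1)

universe u

variable {S : Type u} [Group S]

/-! ### five-groups -/

theorem pgroup_sup {p : ℕ} [Fact p.Prime] {H : Subgroup S} (hH : IsPGroup p H) {x : S} (hx : x ^ p = 1)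
    (hn : x ∈ normalizer (H : Set S)) : IsPGroup p (H ⊔ zpowers x : Subgroup S) := by
  have h1 : IsPGroup p (zpowers x) := by
    rintro ⟨y, k, rfl⟩
    refine ⟨1, Subtype.ext ?_⟩
    show (x ^ k) ^ p ^ 1 = 1
    rw [pow_one, ← zpow_natCast, ← zpow_mul, mul_comm, zpow_mul, zpow_natCast, hx, one_zpow]
  exact hH.to_sup_of_normal_left' h1 (zpowers_le.2 hn)

/-- a configuration: `c` central of order `p`, `u₀, u₁, u₂, u₃` of order `p`, `[u₀,u₁] ≠ 1`, `[u₂,u₃] ≠ 1` in `⟨c⟩` -/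
structure Ex (p : ℕ) (c : S) (u : Fin 4 → S) : Prop where
  up : ∀ i, u i ^ p = 1
  cp : c ^ p = 1
  cc : ∀ i, u i * c = c * u i
  cm : ∀ i j : Fin 4, (i = 0 ∨ i = 1) → (j = 2 ∨ j = 3) → u i * u j = u j * u i
  n01 : u 0 * u 1 ≠ u 1 * u 0
  n23 : u 2 * u 3 ≠ u 3 * u 2
  k01 : ∃ k : ℤ, u 1 * u 0 * (u 1)⁻¹ = u 0 * c ^ k
  k23 : ∃ k : ℤ, u 3 * u 2 * (u 3)⁻¹ = u 2 * c ^ k

theorem Ex.map {p : ℕ} {c : S} {u : Fin 4 → S} (h : Ex p c u) (g : S) :
    Ex p (g * c * g⁻¹) fun i => g * u i * g⁻¹ where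
  up i := by rw [conj_pow, h.up]; group
  cp := by rw [conj_pow, h.cp]; group
  cc i := by
    calc (g * u i * g⁻¹) * (g * c * g⁻¹) = g * (u i * c) * g⁻¹ := by group
      _ = g * (c * u i) * g⁻¹ := by rw [h.cc]
      _ = (g * c * g⁻¹) * (g * u i * g⁻¹) := by group
  cm i j hi hj := by
    calc (g * u i * g⁻¹) * (g * u j * g⁻¹) = g * (u i * u j) * g⁻¹ := by group
      _ = g * (u j * u i) * g⁻¹ := by rw [h.cm i j hi hj]
      _ = (g * u j * g⁻¹) * (g * u i * g⁻¹) := by group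
  n01 h1 := h.n01 (by
    have h2 : g * (u 0 * u 1) * g⁻¹ = g * (u 1 * u 0) * g⁻¹ := by
      calc g * (u 0 * u 1) * g⁻¹ = (g * u 0 * g⁻¹) * (g * u 1 * g⁻¹) := by group
        _ = (g * u 1 * g⁻¹) * (g * u 0 * g⁻¹) := h1
        _ = g * (u 1 * u 0) * g⁻¹ := by group
    exact mul_left_cancel (mul_right_cancel h2))
  n23 h1 := h.n23 (by
    have h2 : g * (u 2 * u 3) * g⁻¹ = g * (u 3 * u 2) * g⁻¹ := by
      calc g * (u 2 * u 3) * g⁻¹ = (g * u 2 * g⁻¹) * (g * u 3 * g⁻¹) := by group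
        _ = (g * u 3 * g⁻¹) * (g * u 2 * g⁻¹) := h1
        _ = g * (u 3 * u 2) * g⁻¹ := by group
    exact mul_left_cancel (mul_right_cancel h2))
  k01 := by
    obtain ⟨k, hk⟩ := h.k01
    refine ⟨k, ?_⟩
    rw [conj_zpow]
    calc (g * u 1 * g⁻¹) * (g * u 0 * g⁻¹) * (g * u 1 * g⁻¹)⁻¹ = g * (u 1 * u 0 * (u 1)⁻¹) * g⁻¹ := by group
      _ = g * (u 0 * c ^ k) * g⁻¹ := by rw [hk]
      _ = _ := by group
  k23 := by
    obtain ⟨k, hk⟩ := h.k23
    refine ⟨k, ?_⟩
    rw [conj_zpow]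
    calc (g * u 3 * g⁻¹) * (g * u 2 * g⁻¹) * (g * u 3 * g⁻¹)⁻¹ = g * (u 3 * u 2 * (u 3)⁻¹) * g⁻¹ := by group
      _ = g * (u 2 * c ^ k) * g⁻¹ := by rw [hk]
      _ = _ := by group

theorem Ex.mapHom {T : Type*} [Group T] {p : ℕ} {c : S} {u : Fin 4 → S} (h : Ex p c u) (f : S →* T)
    (hf : Function.Injective f) : Ex p (f c) fun i => f (u i) where
  up i := by rw [← map_pow, h.up, map_one]
  cp := by rw [← map_pow, h.cp, map_one]
  cc i := by rw [← map_mul, h.cc, map_mul]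
  cm i j hi hj := by rw [← map_mul, h.cm i j hi hj, map_mul]
  n01 h1 := h.n01 (hf (by rw [map_mul, map_mul]; exact h1))
  n23 h1 := h.n23 (hf (by rw [map_mul, map_mul]; exact h1))
  k01 := by
    obtain ⟨k, hk⟩ := h.k01
    exact ⟨k, by rw [← map_zpow, ← map_mul, ← map_inv, ← map_mul, ← map_mul, hk]⟩
  k23 := by
    obtain ⟨k, hk⟩ := h.k23
    exact ⟨k, by rw [← map_zpow, ← map_mul, ← map_inv, ← map_mul, ← map_mul, hk]⟩

/-- the subgroup generated is a `p`-group -/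
theorem Ex.exists_pgroup [Finite S] {p : ℕ} [hp : Fact p.Prime] {c : S} {u : Fin 4 → S} (h : Ex p c u) :
    ∃ E : Subgroup S, IsPGroup p E ∧ ∀ i, u i ∈ E := by
  have key : ∀ (s : Set S) (x : S), (∀ g ∈ s, x * g * x⁻¹ ∈ closure s) → x ∈ normalizer (closure s : Set S) := by
    intro s x hx
    apply mem_normalizer_fintype
    intro g hg
    have h1 : (closure s).map (MulAut.conj x).toMonoidHom ≤ closure s := by
      rw [MonoidHom.map_closure, closure_le]
      rintro _ ⟨g, hg, rfl⟩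
      exact hx g hg
    exact h1 ⟨g, hg, rfl⟩
  have com : ∀ x g : S, x * g = g * x → x * g * x⁻¹ = g := fun x g h => by rw [h]; group
  -- the step
  have step : ∀ (s : Set S) (x : S), x ^ p = 1 → IsPGroup p (closure s) → (∀ g ∈ s, x * g * x⁻¹ ∈ closure s) →
      IsPGroup p (closure (insert x s)) := by
    intro s x hx hs hg
    have h1 := pgroup_sup hs hx (key s x hg)
    have h2 : closure (insert x s) = closure s ⊔ zpowers x := by
      rw [Set.insert_eq, Subgroup.closure_union, sup_comm, zpowers_eq_closure]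
    rwa [h2]
  have h0 : IsPGroup p (closure ({c} : Set S)) := by
    have h1 := pgroup_sup (IsPGroup.of_bot (p := p) (G := S)) h.cp (by
      apply mem_normalizer_fintype
      intro g hg
      have h2 : g = 1 := mem_bot.1 hg
      rw [h2]; simp)
    rw [bot_sup_eq, zpowers_eq_closure] at h1
    exact h1
  have h1 := step _ (u 0) (h.up 0) h0 (by
    rintro g rfl
    rw [com _ _ (h.cc 0)]
    exact subset_closure rfl)
  have h2 := step _ (u 1) (h.up 1) h1 (by
    rintro g (rfl | rfl)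
    · obtain ⟨k, hk⟩ := h.k01
      rw [hk]
      exact mul_mem (subset_closure (by simp)) (zpow_mem (subset_closure (by simp)) k)
    · rw [com _ _ (h.cc 1)]
      exact subset_closure (by simp))
  have h3 := step _ (u 2) (h.up 2) h2 (by
    rintro g (rfl | rfl | rfl)
    · rw [com _ _ (h.cm 1 2 (by simp) (by simp)).symm]
      exact subset_closure (by simp)
    · rw [com _ _ (h.cm 0 2 (by simp) (by simp)).symm]
      exact subset_closure (by simp)
    · rw [com _ _ (h.cc 2)]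
      exact subset_closure (by simp))
  have h4 := step _ (u 3) (h.up 3) h3 (by
    rintro g (rfl | rfl | rfl | rfl)
    · obtain ⟨k, hk⟩ := h.k23
      rw [hk]
      exact mul_mem (subset_closure (by simp)) (zpow_mem (subset_closure (by simp)) k)
    · rw [com _ _ (h.cm 1 3 (by simp) (by simp)).symm]
      exact subset_closure (by simp)
    · rw [com _ _ (h.cm 0 3 (by simp) (by simp)).symm]
      exact subset_closure (by simp)
    · rw [com _ _ (h.cc 3)]
      exact subset_closure (by simp))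
  refine ⟨_, h4, fun i => ?_⟩
  fin_cases i <;> exact subset_closure (by simp)

/-- `Ex` in a given Sylow subgroup -/
theorem Ex.exists_in [Finite S] {p : ℕ} [hp : Fact p.Prime] {c : S} {u : Fin 4 → S} (h : Ex p c u)
    {P : Subgroup S} (hP : IsPGroup p P) (hPi : ¬ p ∣ P.index) : ∃ (c' : S) (u' : Fin 4 → S),
      Ex p c' u' ∧ ∀ i, u' i ∈ P := by
  obtain ⟨E, hE, hu⟩ := h.exists_pgroup
  obtain ⟨R, hR⟩ := hE.exists_le_sylow
  obtain ⟨g, hg⟩ := MulAction.exists_smul_eq S R (hP.toSylow hPi)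
  refine ⟨_, _, h.map g, fun i => ?_⟩
  have h7 : g * u i * g⁻¹ ∈ ((g • R : Sylow p S) : Subgroup S) := ⟨u i, hR (hu i), rfl⟩
  rw [hg] at h7
  exact h7

/-! ### the centre -/

theorem step_le [Finite S] {p : ℕ} [hp : Fact p.Prime] {D : Subgroup S} (hD : IsPGroup p D) {x y : S}
    (hy : y ∈ D) (hxy : x * y ≠ y * x) : p * Nat.card (D ⊓ centralizer {x} : Subgroup S) ≤ Nat.card D := by
  set C : Subgroup S := D ⊓ centralizer {x} with hC
  obtain ⟨n, hn⟩ := hD.exists_card_eq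
  obtain ⟨k, hk⟩ := (hD.to_le (inf_le_left : C ≤ D)).exists_card_eq
  have h1 : k < n := by
    by_contra h2
    have h3 : C = D := eq_of_le_of_card_ge inf_le_left (by
      rw [hn, hk]; exact Nat.pow_le_pow_right hp.out.pos (by omega))
    have h4 : y ∈ C := by rw [h3]; exact hy
    exact hxy (mem_centralizer_singleton_iff.1 h4.2).symm
  rw [hn, hk, ← pow_succ']
  exact Nat.pow_le_pow_right hp.out.pos h1

theorem Ex.card_center [Finite S] {p : ℕ} [hp : Fact p.Prime] {c : S} {u : Fin 4 → S} (h : Ex p c u)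
    {P : Subgroup S} (hP : IsPGroup p P) (hu : ∀ i, u i ∈ P) :
    p ^ 4 * Nat.card (P ⊓ centralizer (P : Set S) : Subgroup S) ≤ Nat.card P := by
  set D1 : Subgroup S := P ⊓ centralizer {u 0} with hD1
  set D2 : Subgroup S := D1 ⊓ centralizer {u 1} with hD2
  set D3 : Subgroup S := D2 ⊓ centralizer {u 2} with hD3
  set D4 : Subgroup S := D3 ⊓ centralizer {u 3} with hD4
  have p1 : IsPGroup p D1 := hP.to_le inf_le_left
  have p2 : IsPGroup p D2 := p1.to_le inf_le_left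
  have p3 : IsPGroup p D3 := p2.to_le inf_le_left
  have c1 := step_le hP (hu 1) h.n01
  have c2 := step_le p1 (x := u 1) (y := u 0) ⟨hu 0, mem_centralizer_singleton_iff.2 rfl⟩ (Ne.symm h.n01)
  have m3 : u 3 ∈ D2 := ⟨⟨hu 3, mem_centralizer_singleton_iff.2 (h.cm 0 3 (by simp) (by simp)).symm⟩,
    mem_centralizer_singleton_iff.2 (h.cm 1 3 (by simp) (by simp)).symm⟩
  have m2 : u 2 ∈ D3 := ⟨⟨⟨hu 2, mem_centralizer_singleton_iff.2 (h.cm 0 2 (by simp) (by simp)).symm⟩,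
    mem_centralizer_singleton_iff.2 (h.cm 1 2 (by simp) (by simp)).symm⟩, mem_centralizer_singleton_iff.2 rfl⟩
  have c3 := step_le p2 m3 h.n23
  have c4 := step_le p3 m2 (Ne.symm h.n23)
  have h5 : (P ⊓ centralizer (P : Set S) : Subgroup S) ≤ D4 := by
    rintro z ⟨hz, hzc⟩
    have h6 : ∀ i, z ∈ centralizer {u i} := fun i =>
      mem_centralizer_singleton_iff.2 (mem_centralizer_iff.1 hzc (u i) (hu i)).symm
    exact ⟨⟨⟨⟨hz, h6 0⟩, h6 1⟩, h6 2⟩, h6 3⟩
  have h6 := card_le_of_le h5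
  rw [← hD1] at c1
  rw [← hD2] at c2
  rw [← hD3] at c3
  rw [← hD4] at c4
  calc p ^ 4 * Nat.card (P ⊓ centralizer (P : Set S) : Subgroup S) ≤ p ^ 4 * Nat.card D4 := Nat.mul_le_mul_left _ h6
    _ = p * (p * (p * (p * Nat.card D4))) := by ring
    _ ≤ p * (p * (p * Nat.card D3)) := by gcongr
    _ ≤ p * (p * Nat.card D2) := by gcongr
    _ ≤ p * Nat.card D1 := by gcongr
    _ ≤ Nat.card P := c1

/-- no abelian subgroup of index `p` -/
theorem Ex.no_abelian [Finite S] {p : ℕ} [hp : Fact p.Prime] {c : S} {u : Fin 4 → S} (h : Ex p c u)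
    {P Q : Subgroup S} (hu : ∀ i, u i ∈ P) (hQP : Q ≤ P) (hn : P ≤ normalizer (Q : Set S))
    (hi : Nat.card P = p * Nat.card Q) (hab : ∀ x ∈ Q, ∀ y ∈ Q, x * y = y * x) : False := by
  -- `P / Q` has order `p`
  have hidx : ∀ v ∈ P, v ∉ Q → ∀ w ∈ P, ∃ k : ℕ, w * v ^ k ∈ Q := by
    intro v hv hvQ w hw
    have hn' : (Q.subgroupOf P).Normal := (normal_subgroupOf_iff_le_normalizer hQP).2 hn
    have hc : Nat.card (P ⧸ Q.subgroupOf P) = p := by
      have h1 := (Q.subgroupOf P).card_mul_index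
      rw [Nat.card_congr (subgroupOfEquivOfLe hQP).toEquiv, hi, mul_comm] at h1
      exact Nat.eq_of_mul_eq_mul_right Nat.card_pos h1
    have h1 : ((⟨v, hv⟩ : P) : P ⧸ Q.subgroupOf P) ≠ 1 := by
      rw [Ne, QuotientGroup.eq_one_iff]
      exact hvQ
    obtain ⟨k, hk⟩ := mem_powers_of_prime_card hc h1 (g' := (((⟨w, hw⟩ : P) : P ⧸ Q.subgroupOf P))⁻¹)
    have hk : ((⟨v, hv⟩ : P) : P ⧸ Q.subgroupOf P) ^ k = (((⟨w, hw⟩ : P) : P ⧸ Q.subgroupOf P))⁻¹ := hk
    refine ⟨k, ?_⟩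
    have h2 : (((⟨w, hw⟩ : P) * (⟨v, hv⟩ : P) ^ k : P) : P ⧸ Q.subgroupOf P) = 1 := by
      rw [QuotientGroup.mk_mul, QuotientGroup.mk_pow, hk, mul_inv_cancel]
    rw [QuotientGroup.eq_one_iff] at h2
    exact h2
  -- the main step
  have main : ∀ v v' w : S, v ∈ P → v' ∈ P → w ∈ P → v ^ p = 1 → v * v' ≠ v' * v → w * v = v * w →
      w * v' = v' * w → v ∉ Q → w ∈ Q := by
    intro v v' w hv hv' hw hvp hvv hwv hwv' hvQ
    obtain ⟨k, hk⟩ := hidx v hv hvQ w hw
    obtain ⟨l, hl⟩ := hidx v hv hvQ v' hv'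
    have h1 : Commute (w * v ^ k) (v' * v ^ l) := hab _ hk _ hl
    have h2 : Commute w (v' * v ^ l) :=
      (show Commute w v' from hwv').mul_right ((show Commute w v from hwv).pow_right l)
    have h3 : Commute (v ^ k) (v' * v ^ l) := by
      have h4 : Commute (w⁻¹ * (w * v ^ k)) (v' * v ^ l) := h2.inv_left.mul_left h1
      rwa [inv_mul_cancel_left] at h4
    have h4 : Commute (v ^ k) v' := by
      have h5 : Commute (v ^ k) (v ^ l)⁻¹ := ((Commute.refl v).pow_pow k l).inv_right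
      have h6 := h3.mul_right h5
      rwa [mul_inv_cancel_right] at h6
    by_cases hkp : p ∣ k
    · obtain ⟨m, rfl⟩ := hkp
      rw [pow_mul, hvp, one_pow, mul_one] at hk
      exact hk
    · exfalso
      apply hvv
      have h5 : Nat.Coprime k p := (hp.out.coprime_iff_not_dvd.2 hkp).symm
      have h6 : ∃ m : ℕ, (v ^ k) ^ m = v := by
        obtain ⟨m, hm⟩ := exists_pow_eq_self_of_coprime (x := v) (n := k) (by
          exact h5.coprime_dvd_right (orderOf_dvd_of_pow_eq_one hvp))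
        exact ⟨m, hm⟩
      obtain ⟨m, hm⟩ := h6
      have h7 := h4.pow_left m
      rw [hm] at h7
      exact h7
  have hw2 : u 2 ∈ Q := by
    by_cases h0 : u 0 ∈ Q
    · have h1 : u 1 ∉ Q := fun h1 => h.n01 (hab _ h0 _ h1)
      exact main (u 1) (u 0) (u 2) (hu 1) (hu 0) (hu 2) (h.up 1) (Ne.symm h.n01) (h.cm 1 2 (by simp) (by simp)).symm
        (h.cm 0 2 (by simp) (by simp)).symm h1
    · exact main (u 0) (u 1) (u 2) (hu 0) (hu 1) (hu 2) (h.up 0) h.n01 (h.cm 0 2 (by simp) (by simp)).symm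
        (h.cm 1 2 (by simp) (by simp)).symm h0
  have hw3 : u 3 ∈ Q := by
    by_cases h0 : u 0 ∈ Q
    · have h1 : u 1 ∉ Q := fun h1 => h.n01 (hab _ h0 _ h1)
      exact main (u 1) (u 0) (u 3) (hu 1) (hu 0) (hu 3) (h.up 1) (Ne.symm h.n01) (h.cm 1 3 (by simp) (by simp)).symm
        (h.cm 0 3 (by simp) (by simp)).symm h1
    · exact main (u 0) (u 1) (u 3) (hu 0) (hu 1) (hu 3) (h.up 0) h.n01 (h.cm 0 3 (by simp) (by simp)).symm
        (h.cm 1 3 (by simp) (by simp)).symm h0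
  exact h.n23 (hab _ hw2 _ hw3)

end Cfsg.Agent.H171.RM
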