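import Cfsg.Agent.H171.RM.SolBase
import Cfsg.Agent.S4312
import Cfsg.Prelude.Def_HallClasses

/-!
# S3849, P11: groups of order prime to 3 with composition factors `Sz(8)`, `Sz(32)` (helper171)

* `exists_borel` : a simple group of order prime to 3 has order `szc m`, `|N(T)| = q ^ 2 * (q - 1)`;
* `hall_all` : a finite group of order prime to 3, whose order is divisible by `szc m` for `m ∈ {1, 2}` only, has a
  Hall `{2,7}`- and a Hall `{2,31}`-subgroup;
* `sol_no_szc` : a finite group of order prime to 3 not divisible by any `szc m` is solvable.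
-/

set_option autoImplicit false

namespace Cfsg.Agent.H171.RM

open Subgroup Cfsg Cfsg.Agent.H171.RV.SzHall

universe u

theorem exists_borel {L : Type u} [Group L] [Finite L] [IsSimpleGroup L] (hna : ∃ a b : L, a * b ≠ b * a)
    (h3 : ¬ 3 ∣ Nat.card L) : ∃ m, 1 ≤ m ∧ Nat.card L = szc m ∧
      ∃ T : Sylow 2 L, Nat.card (normalizer ((T : Subgroup L) : Set L)) =
        (2 ^ (2 * m + 1)) ^ 2 * (2 ^ (2 * m + 1) - 1) := by
  have hF2 : Fact (Nat.Prime 2) := ⟨Nat.prime_two⟩
  obtain ⟨F, hF1, hF2', m, hm, hF, ⟨e⟩⟩ := ThreePrime.Main.isoSuzuki hna h3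
  obtain ⟨hc, S, hS, -⟩ := S1163.result hm hF
  have hcL : Nat.card L = szc m := (Nat.card_congr e.toEquiv).trans hc
  refine ⟨m, hm, hcL, ?_⟩
  have hfin : Finite ↥(Cfsg.Lie.Sz F (2 ^ (m + 1))) := Finite.of_equiv _ e.toEquiv
  have h1 : IsPGroup 2 ((S : Subgroup _).map e.symm.toMonoidHom) := S.isPGroup'.map _
  have h2 : ¬ 2 ∣ ((S : Subgroup _).map e.symm.toMonoidHom).index := by
    rw [Subgroup.index_map_of_bijective e.symm.bijective]
    exact S.not_dvd_index
  refine ⟨h1.toSylow h2, ?_⟩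
  rw [IsPGroup.toSylow_coe, ← Subgroup.map_equiv_normalizer_eq,
    Subgroup.card_map_of_injective e.symm.injective, hS]

/-- a subgroup of order `a` and index `b` is a Hall subgroup -/
theorem isPiHall_card {L : Type u} [Group L] [Finite L] {H : Subgroup L} {π : Set ℕ} {a b : ℕ} (ha : Nat.card H = a)
    (hL : Nat.card L = a * b) (ha0 : 0 < a) (h1 : ∀ p : ℕ, p.Prime → p ∣ a → p ∈ π)
    (h2 : ∀ p : ℕ, p.Prime → p ∈ π → ¬ p ∣ b) : IsPiHall π H := by
  have hi : H.index = b := by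
    have h := H.card_mul_index
    rw [ha, hL] at h
    exact Nat.eq_of_mul_eq_mul_left ha0 h
  exact ⟨fun p hp hd => h1 p hp (by rwa [ha] at hd), fun p hp hπ hd => h2 p hp hπ (by rwa [hi] at hd)⟩

theorem dvd_two_pow {p k : ℕ} (hp : p.Prime) (h : p ∣ 2 ^ k) : p = 2 :=
  (Nat.prime_dvd_prime_iff_eq hp Nat.prime_two).1 (hp.dvd_of_dvd_pow h)

theorem sylow_card {L : Type u} [Group L] [Finite L] {k n : ℕ} (T : Sylow 2 L) (hL : Nat.card L = 2 ^ k * n)
    (hn : ¬ 2 ∣ n) : Nat.card (T : Subgroup L) = 2 ^ k := by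
  have hF2 : Fact (Nat.Prime 2) := ⟨Nat.prime_two⟩
  exact H555.RV.card_sylow_of T hL hn

/-- the Hall subgroups of `Sz(8)` and `Sz(32)` -/
theorem hall_sz {L : Type u} [Group L] [Finite L] {m : ℕ} (hm : m = 1 ∨ m = 2) (hL : Nat.card L = szc m)
    {T : Sylow 2 L} (hT : Nat.card (normalizer ((T : Subgroup L) : Set L)) =
        (2 ^ (2 * m + 1)) ^ 2 * (2 ^ (2 * m + 1) - 1)) :
    IsEPiGroup ({2, 7} : Set ℕ) L ∧ IsEPiGroup ({2, 31} : Set ℕ) L := by
  have h7 : Nat.Prime 7 := by norm_num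
  have h31 : Nat.Prime 31 := by norm_num
  rcases hm with rfl | rfl
  · have e1 : Nat.card L = 2 ^ 6 * 455 := hL.trans (by norm_num [szc])
    have e2 : Nat.card L = (2 ^ 6 * 7) * 65 := hL.trans (by norm_num [szc])
    refine ⟨⟨normalizer ((T : Subgroup L) : Set L), isPiHall_card (a := 2 ^ 6 * 7) (b := 65) (hT.trans (by norm_num)) e2
      (by norm_num) (fun p hp hd => ?_) (fun p hp hπ hd => ?_)⟩,
      ⟨(T : Subgroup L), isPiHall_card (sylow_card T e1 (by norm_num)) e1 (by norm_num)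
      (fun p hp hd => Or.inl (dvd_two_pow hp hd)) (fun p hp hπ hd => ?_)⟩⟩
    · rcases hp.dvd_mul.1 hd with h | h
      · exact Or.inl (dvd_two_pow hp h)
      · exact Or.inr ((Nat.prime_dvd_prime_iff_eq hp h7).1 h)
    · rcases hπ with rfl | h
      · norm_num at hd
      · rw [Set.mem_singleton_iff] at h; subst h; norm_num at hd
    · rcases hπ with rfl | h
      · norm_num at hd
      · rw [Set.mem_singleton_iff] at h; subst h; norm_num at hd
  · have e1 : Nat.card L = 2 ^ 10 * 31775 := hL.trans (by norm_num [szc])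
    have e2 : Nat.card L = (2 ^ 10 * 31) * 1025 := hL.trans (by norm_num [szc])
    refine ⟨⟨(T : Subgroup L), isPiHall_card (sylow_card T e1 (by norm_num)) e1 (by norm_num)
      (fun p hp hd => Or.inl (dvd_two_pow hp hd)) (fun p hp hπ hd => ?_)⟩,
      ⟨normalizer ((T : Subgroup L) : Set L), isPiHall_card (a := 2 ^ 10 * 31) (b := 1025) (hT.trans (by norm_num)) e2
      (by norm_num) (fun p hp hd => ?_) (fun p hp hπ hd => ?_)⟩⟩
    · rcases hπ with rfl | h
      · norm_num at hd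
      · rw [Set.mem_singleton_iff] at h; subst h; norm_num at hd
    · rcases hp.dvd_mul.1 hd with h | h
      · exact Or.inl (dvd_two_pow hp h)
      · exact Or.inr ((Nat.prime_dvd_prime_iff_eq hp h31).1 h)
    · rcases hπ with rfl | h
      · norm_num at hd
      · rw [Set.mem_singleton_iff] at h; subst h; norm_num at hd

/-- induction along normal subgroups for the groups of order prime to 3 -/
theorem ind {P : ∀ (H : Type u) [Group H] [Finite H], Prop} {Q : ℕ → Prop} (hQ : ∀ a b : ℕ, a ∣ b → Q b → Q a)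
    (hQ3 : ∀ a : ℕ, Q a → ¬ 3 ∣ a)
    (hsol : ∀ (H : Type u) [Group H] [Finite H], Q (Nat.card H) → Group.IsSolvable H → P H)
    (hext : ∀ (H : Type u) [Group H] [Finite H] (A : Subgroup H) [A.Normal], Q (Nat.card H) → P A → P (H ⧸ A) → P H)
    (hsim : ∀ (H : Type u) [Group H] [Finite H], Q (Nat.card H) → ∀ m, 1 ≤ m → Nat.card H = szc m →
      (∃ T : Sylow 2 H, Nat.card (normalizer ((T : Subgroup H) : Set H)) =
        (2 ^ (2 * m + 1)) ^ 2 * (2 ^ (2 * m + 1) - 1)) → P H) (n : ℕ) :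
    ∀ (H : Type u) [Group H] [Finite H], Nat.card H = n → Q n → P H := by
  induction n using Nat.strong_induction_on with
  | _ n ih =>
  intro H _ _ hn hq
  have hq' : Q (Nat.card H) := by rw [hn]; exact hq
  by_cases hs : Group.IsSolvable H
  · exact hsol H hq' hs
  by_cases hA : ∃ A : Subgroup H, A.Normal ∧ A ≠ ⊥ ∧ A ≠ ⊤
  · obtain ⟨A, hAn, hA1, hA2⟩ := hA
    have hc := Subgroup.card_eq_card_quotient_mul_card_subgroup A
    have ha1 : 1 < Nat.card A := by rw [Subgroup.one_lt_card_iff_ne_bot]; exact hA1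
    have hi1 : 1 < Nat.card (H ⧸ A) := by
      have h1 : A.index ≠ 1 := fun h => hA2 (index_eq_one.1 h)
      have h2 : 0 < A.index := Nat.pos_of_ne_zero index_ne_zero_of_finite
      have h3 : Nat.card (H ⧸ A) = A.index := rfl
      omega
    have hlt1 : Nat.card A < n := by rw [← hn, hc]; nlinarith
    have hlt2 : Nat.card (H ⧸ A) < n := by rw [← hn, hc]; nlinarith
    exact hext H A hq' (ih _ hlt1 A rfl (hQ _ _ (by rw [← hn, hc]; exact dvd_mul_left _ _) hq))
      (ih _ hlt2 (H ⧸ A) rfl (hQ _ _ (by rw [← hn, hc]; exact dvd_mul_right _ _) hq))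
  · push Not at hA
    have hnt : Nontrivial H := by
      by_contra hcon
      rw [not_nontrivial_iff_subsingleton] at hcon
      exact hs inferInstance
    have hsimp : IsSimpleGroup H := ⟨fun A hAn => by
      by_cases hb : A = ⊥
      · exact Or.inl hb
      · exact Or.inr (hA A hAn hb)⟩
    have hna : ∃ a b : H, a * b ≠ b * a := by
      by_contra hcon
      push Not at hcon
      exact hs (by
        letI : CommGroup H := { (inferInstance : Group H) with mul_comm := hcon }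
        infer_instance)
    obtain ⟨m, hm1, hm2, hT⟩ := exists_borel hna (hQ3 _ hq')
    exact hsim H hq' m hm1 hm2 hT

theorem hall_all (H : Type u) [Group H] [Finite H] (h3 : ¬ 3 ∣ Nat.card H)
    (hN : ∀ m, 1 ≤ m → szc m ∣ Nat.card H → m = 1 ∨ m = 2) :
    IsEPiGroup ({2, 7} : Set ℕ) H ∧ IsEPiGroup ({2, 31} : Set ℕ) H := by
  refine ind (P := fun (H : Type u) _ _ => IsEPiGroup ({2, 7} : Set ℕ) H ∧ IsEPiGroup ({2, 31} : Set ℕ) H)
    (Q := fun n => ¬ 3 ∣ n ∧ ∀ m, 1 ≤ m → szc m ∣ n → m = 1 ∨ m = 2) ?_ (fun a h => h.1) ?_ ?_ ?_ (Nat.card H) H rfl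
    ⟨h3, hN⟩
  · exact fun a b hab h => ⟨fun h' => h.1 (h'.trans hab), fun m hm hd => h.2 m hm (hd.trans hab)⟩
  · exact fun H _ _ _ hs => ⟨exists_hall hs _, exists_hall hs _⟩
  · intro H _ _ A _ _ hA hQ
    exact ⟨S4312.result _ (Or.inr (by norm_num)) A hA.1 hQ.1, S4312.result _ (Or.inr (by norm_num)) A hA.2 hQ.2⟩
  · rintro H _ _ hq m hm hc ⟨T, hT⟩
    exact hall_sz (hq.2 m hm (by rw [hc])) hc hT

theorem sol_no_szc (H : Type u) [Group H] [Finite H] (h3 : ¬ 3 ∣ Nat.card H)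
    (hN : ∀ m, 1 ≤ m → ¬ szc m ∣ Nat.card H) : Group.IsSolvable H := by
  refine ind (P := fun (H : Type u) _ _ => Group.IsSolvable H)
    (Q := fun n => ¬ 3 ∣ n ∧ ∀ m, 1 ≤ m → ¬ szc m ∣ n) ?_ (fun a h => h.1) ?_ ?_ ?_ (Nat.card H) H rfl ⟨h3, hN⟩
  · exact fun a b hab h => ⟨fun h' => h.1 (h'.trans hab), fun m hm hd => h.2 m hm (hd.trans hab)⟩
  · exact fun H _ _ _ hs => hs
  · intro H _ _ A _ _ hA hQ
    exact Group.isSolvable_of_ker_le_range A.subtype (QuotientGroup.mk' A)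
      (by rw [QuotientGroup.ker_mk', Subgroup.range_subtype])
  · rintro H _ _ hq m hm hc _
    exact absurd (by rw [hc]) (hq.2 m hm)

end Cfsg.Agent.H171.RM
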